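import Mathlib.Tactic.IntervalCases
import Mathlib.Tactic.Linarith
import Mathlib.Tactic.Ring
import Mathlib.Tactic.LinearCombination
import Mathlib.Tactic.NormNum
import Mathlib.Algebra.Ring.Int.Parity
import Mathlib.Data.Int.Basic
import Mathlib.NumberTheory.Divisors

/-!
# The arithmetic at the end of the `GL(2,3)` order theorem
-/

set_option autoImplicit false

namespace Cfsg.Agent.GL23Inv

theorem arith {g : ℕ} {m : ℕ} (hg : g = 16 * m) (hm : m % 2 = 1) (h84 : 4032 ≤ g) {F A : ℤ}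
    (hF0 : F ≠ 0) (hF1 : F + 1 ≠ 0) (hA : A ^ 2 + A ≤ 23) (h8 : 8 ∣ F + A + 6)
    (h16 : 16 ∣ F + 5 * A + 10) (heq : (g : ℤ) * (F - A) ^ 2 = 4608 * F * (F + 1)) :
    g = 5616 ∨ g = 7920 := by
  obtain ⟨M, hM⟩ : ∃ M : ℤ, M = (m : ℤ) := ⟨_, rfl⟩
  have hM2 : M % 2 = 1 := by omega
  have hgM : (g : ℤ) = 16 * M := by omega
  rw [hgM] at heq
  obtain ⟨l, hl⟩ : ∃ l, F = A + 4 * l := ⟨(F - A) / 4, by omega⟩
  have h1 : M * l ^ 2 = 18 * F * (F + 1) := by
    have : F - A = 4 * l := by omega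
    rw [this] at heq
    linarith [show M * l ^ 2 * 256 = 4608 * F * (F + 1) by linear_combination heq]
  have hev : Even (M * l ^ 2) := by rw [h1]; exact ⟨9 * F * (F + 1), by ring⟩
  obtain ⟨k, hk⟩ : ∃ k, l = 2 * k := by
    rcases Int.even_mul.mp hev with h | h
    · exfalso; obtain ⟨r, hr⟩ := h; omega
    · obtain ⟨r, hr⟩ := (Int.even_pow.mp h).1; exact ⟨r, by omega⟩
  subst hk
  have hA4 : A % 4 = 1 := by omega
  have hlo : -5 ≤ A := by nlinarith
  have hhi : A ≤ 4 := by nlinarith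
  have hA13 : A = 1 ∨ A = -3 := by omega
  have hFv : F = A + 8 * k := by omega
  subst hFv
  have hdiv : ∀ x : ℤ, k ^ 2 * M = x → x % 2 = 1 → k % 2 = 1 := by
    intro x hx hxo
    have h2 : Odd (k ^ 2 * M) := by rw [hx]; exact Int.odd_iff.mpr hxo
    have h3 := (Int.odd_mul.mp h2).1
    rw [Int.odd_pow' (by norm_num)] at h3
    exact Int.odd_iff.mp h3
  rcases hA13 with rfl | rfl
  · exfalso
    have h2 : k ^ 2 * M = 9 * ((8 * k + 1) * (4 * k + 1)) := mul_left_cancel₀ (four_ne_zero (α := ℤ)) (by linear_combination h1)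
    have h3 := hdiv _ h2 (by
      rw [Int.mul_emod, Int.mul_emod (8 * k + 1), show (8 * k + 1) % 2 = 1 by omega,
        show (4 * k + 1) % 2 = 1 by omega]; norm_num)
    omega
  · have h2 : k ^ 2 * M = 9 * ((8 * k - 3) * (4 * k - 1)) := mul_left_cancel₀ (four_ne_zero (α := ℤ)) (by linear_combination h1)
    have h27 : k ∣ 27 := ⟨k * M - 9 * (32 * k - 20), by linear_combination -h2⟩
    have hkn : k.natAbs ∣ 27 := by simpa using Int.natAbs_dvd_natAbs.mpr h27
    have hle : k.natAbs ≤ 27 := Nat.le_of_dvd (by norm_num) hkn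
    have hk27 : k.natAbs = 1 ∨ k.natAbs = 3 ∨ k.natAbs = 9 ∨ k.natAbs = 27 := by
      interval_cases h : k.natAbs <;> simp_all
    have hcases : k = 1 ∨ k = -1 ∨ k = 3 ∨ k = -3 ∨ k = 9 ∨ k = -9 ∨ k = 27 ∨ k = -27 := by omega
    rcases hcases with rfl | rfl | rfl | rfl | rfl | rfl | rfl | rfl <;> norm_num at h2 <;> omega

end Cfsg.Agent.GL23Inv
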