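import Cfsg.Agent.GL23Inv.Fusion
import Cfsg.Agent.BSW7.Basic
import Cfsg.Agent.Lib.CharInd.Char
import Cfsg.Agent.InvChar68.CharTools
import Cfsg.Agent.Lib.CharCore.Virtual
import Cfsg.Agent.Lib.CharCore.Linear
import Cfsg.Agent.Lib.CharCore.Complete
import Mathlib.Algebra.BigOperators.Fin
import Mathlib.GroupTheory.SpecificGroups.Cyclic

/-!
# An involution with centraliser `GL(2,3)`: the two induced virtual characters
-/

set_option autoImplicit false
set_option linter.unusedSectionVars false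

open scoped ComplexConjugate

namespace Cfsg.Agent.GL23Inv.Setup

open Subgroup

variable {G : Type*} [Group G] [Fintype G] (S : Setup G)

/-- The cyclic subgroup generated by `e`. -/
def Z : Subgroup G := zpowers S.e

noncomputable instance instFintypeZ : Fintype S.Z := Fintype.ofFinite _

noncomputable instance instFintypeSyl : Fintype S.syl := Fintype.ofFinite _

/-- The powers of `e`, as elements of `Z`. -/
def el (i : ℕ) : S.Z := ⟨S.e ^ i, pow_mem (mem_zpowers _) i⟩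

theorem el_mul (i j : ℕ) : S.el i * S.el j = S.el (i + j) := Subtype.ext (pow_add _ _ _).symm

theorem el_mod (i : ℕ) : S.el i = S.el (i % 8) := Subtype.ext (S.e_pow_mod i)

theorem exists_el (x : S.Z) : ∃ i : ℕ, x = S.el i := by
  obtain ⟨g, hg⟩ := x
  obtain ⟨n, hn⟩ : g ∈ Submonoid.powers S.e := mem_powers_iff_mem_zpowers.mpr hg
  exact ⟨n, Subtype.ext hn.symm⟩

theorem sum_Z (F : S.Z → ℂ) : ∑ x : S.Z, F x = ∑ i : Fin 8, F (S.el (i : ℕ)) := by
  refine (Fintype.sum_bijective (fun i : Fin 8 => S.el (i : ℕ)) ?_ _ _ fun _ => rfl).symm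
  refine (Fintype.bijective_iff_surjective_and_card _).mpr ⟨fun x => ?_, ?_⟩
  · obtain ⟨i, rfl⟩ := S.exists_el x
    exact ⟨⟨i % 8, Nat.mod_lt _ (by norm_num)⟩, (S.el_mod i).symm⟩
  · rw [Fintype.card_fin, ← Nat.card_eq_fintype_card, Z, S.card_zpowers_e]

theorem sum_syl (F : G → ℂ) : ∑ x : S.syl, F x =
    (∑ i : Fin 8, F (S.e ^ (i : ℕ))) + ∑ i : Fin 8, F (S.u * S.e ^ (i : ℕ)) := by
  let f : Fin 8 ⊕ Fin 8 → S.syl := Sum.elim (fun i => ⟨S.e ^ (i : ℕ), (i : ℕ), Or.inl rfl⟩)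
    (fun i => ⟨S.u * S.e ^ (i : ℕ), (i : ℕ), Or.inr rfl⟩)
  have hf : Function.Bijective f := by
    refine (Fintype.bijective_iff_surjective_and_card _).mpr ⟨?_, ?_⟩
    · rintro ⟨x, i, rfl | rfl⟩
      · exact ⟨Sum.inl ⟨i % 8, Nat.mod_lt _ (by norm_num)⟩, Subtype.ext (S.e_pow_mod i).symm⟩
      · exact ⟨Sum.inr ⟨i % 8, Nat.mod_lt _ (by norm_num)⟩, Subtype.ext (by
          show S.u * S.e ^ (i % 8) = _; rw [← S.e_pow_mod i])⟩
    · rw [← Nat.card_eq_fintype_card (α := S.syl), S.card_syl]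
      rfl
  rw [← Fintype.sum_bijective f hf (fun p => F (f p : G)) _ fun _ => rfl, Fintype.sum_sum_type]
  rfl

theorem eq_one_or_t_of_dvd {i : ℕ} (h : 4 ∣ i) : S.el i = S.el 0 ∨ S.el i = S.el 4 := by
  rw [S.el_mod i]
  rcases (show i % 8 = 0 ∨ i % 8 = 4 by omega) with h1 | h1 <;> rw [h1]
  · exact Or.inl rfl
  · exact Or.inr rfl

section Induced

variable {f : S.Z → ℂ} (h0 : f (S.el 0) = 0) (h4 : f (S.el 4) = 0)

include h0 h4

theorem apply_eq_zero_of_dvd {i : ℕ} (h : 4 ∣ i) : f (S.el i) = 0 := by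
  rcases S.eq_one_or_t_of_dvd h with h' | h' <;> rw [h'] <;> assumption

theorem indFun_of_sq {g : G} (hg : g ^ 2 = 1) : Cfsg.indFun S.Z f g = 0 := by
  rw [CharInd.indFun_apply, Finset.sum_eq_zero, mul_zero]
  intro x _
  by_cases hx : x⁻¹ * g * x ∈ S.Z
  · obtain ⟨i, hi⟩ := S.exists_el ⟨_, hx⟩
    rw [show x⁻¹ * g * x = ((S.el i : S.Z) : G) from congrArg Subtype.val hi, CharInd.extendByZero_coe]
    refine S.apply_eq_zero_of_dvd h0 h4 ?_
    have h1 : (x⁻¹ * g * x) ^ 2 = 1 := by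
      have := conj_pow (i := 2) (a := x⁻¹) (b := g)
      rw [inv_inv] at this
      rw [this, hg]
      simp
    rw [show x⁻¹ * g * x = S.e ^ i from congrArg Subtype.val hi, ← pow_mul, ← pow_zero S.e,
      S.e_pow_eq_iff] at h1
    omega
  · exact CharInd.extendByZero_notMem _ hx

theorem indFun_pow {j : ℕ} (hj : ¬ 4 ∣ j) :
    Cfsg.indFun S.Z f (S.e ^ j) = f (S.el j) + f (S.el (3 * j)) := by
  classical
  have key : ∀ x : G, Cfsg.extendByZero S.Z f (x⁻¹ * S.e ^ j * x) =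
      (if x ∈ S.Z then f (S.el j) else 0) +
        (if x ∈ S.syl ∧ x ∉ S.Z then f (S.el (3 * j)) else 0) := by
    intro x
    by_cases hx : x ∈ S.Z
    · rw [if_pos hx, if_neg (fun h => h.2 hx), add_zero]
      obtain ⟨n, rfl⟩ := hx
      rw [mul_assoc, ((Commute.refl S.e).pow_left j).zpow_right n, inv_mul_cancel_left]
      exact CharInd.extendByZero_coe _ f (S.el j)
    rw [if_neg hx, zero_add]
    by_cases hx' : x ∈ S.syl
    · rw [if_pos ⟨hx', hx⟩]
      obtain ⟨i, rfl | rfl⟩ := hx'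
      · exact absurd (pow_mem (mem_zpowers _) i) hx
      rw [show (S.u * S.e ^ i)⁻¹ * S.e ^ j * (S.u * S.e ^ i) = S.e ^ (3 * j) by
        rw [mul_inv_rev, mul_assoc _ S.u⁻¹, S.u_inv, mul_assoc, mul_assoc, ← mul_assoc S.u,
          ← mul_assoc (S.u * S.e ^ j),
          show S.u * S.e ^ j * S.u = S.e ^ (3 * j) by rw [← S.u_conj_pow, S.u_inv],
          ((Commute.refl S.e).pow_pow (3 * j) i).eq, inv_mul_cancel_left]]
      exact CharInd.extendByZero_coe _ f (S.el _)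
    · rw [if_neg (fun h => hx' h.1)]
      by_cases hm : x⁻¹ * S.e ^ j * x ∈ S.Z
      · obtain ⟨k, hk⟩ := S.exists_el ⟨_, hm⟩
        rw [show x⁻¹ * S.e ^ j * x = ((S.el k : S.Z) : G) from congrArg Subtype.val hk,
          CharInd.extendByZero_coe]
        by_cases hk4 : 4 ∣ k
        · exact S.apply_eq_zero_of_dvd h0 h4 hk4
        · refine absurd (S.inSyl_of_conj_pow hj hk4 (g := x⁻¹) ?_) (fun h => hx' ?_)
          · rw [inv_inv]; exact congrArg Subtype.val hk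
          · exact inv_mem_iff.mp (show x⁻¹ ∈ S.syl from h)
      · exact CharInd.extendByZero_notMem _ hm
  rw [CharInd.indFun_apply]
  simp only [key, Finset.sum_add_distrib, ← Finset.sum_filter, Finset.sum_const, nsmul_eq_mul]
  have hc1 : (Finset.univ.filter (fun g => g ∈ S.Z)).card = 8 := by
    rw [← Fintype.card_subtype, ← Nat.card_eq_fintype_card]; exact S.card_zpowers_e
  have hc2 : (Finset.univ.filter (fun g => g ∈ S.syl ∧ g ∉ S.Z)).card = 8 := by
    have h2 := S.card_syl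
    rw [Nat.card_eq_fintype_card, Fintype.card_subtype,
      ← Finset.card_filter_add_card_filter_not (p := fun g => g ∈ S.Z),
      Finset.filter_filter, Finset.filter_filter] at h2
    have h3 : Finset.univ.filter (fun g => g ∈ S.syl ∧ g ∈ S.Z) =
        Finset.univ.filter (fun g => g ∈ S.Z) := by
      refine Finset.filter_congr fun g _ => ⟨fun h => h.2, fun h => ⟨?_, h⟩⟩
      obtain ⟨i, hi⟩ := S.exists_el ⟨g, h⟩
      exact ⟨i, Or.inl (congrArg Subtype.val hi)⟩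
    rw [h3, hc1] at h2
    omega
  rw [hc1, hc2, show Nat.card S.Z = 8 from S.card_zpowers_e]
  push_cast
  ring

end Induced

/-- The faithful linear character of `Z` sending `e` to `i`. -/
noncomputable def mu : S.Z →* ℂˣ :=
  monoidHomOfForallMemZpowers (g := S.el 1) (g' := (Units.mk0 Complex.I Complex.I_ne_zero))
    (fun x => by
      obtain ⟨i, rfl⟩ := S.exists_el x
      exact ⟨i, by simp only [zpow_natCast]; exact Subtype.ext (by simp [el])⟩)
    (by
      refine orderOf_dvd_of_pow_eq_one ?_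
      have h : orderOf (S.el 1) = 8 := by
        rw [← orderOf_submonoid]; show orderOf (S.e ^ 1) = 8
        rw [pow_one, S.orderOf_e]
      rw [h]
      refine Units.ext ?_
      rw [Units.val_pow_eq_pow_val, Units.val_mk0, Units.val_one]
      rw [show (8 : ℕ) = 4 * 2 from rfl, pow_mul, Complex.I_pow_four, one_pow])

theorem mu_el (i : ℕ) : (S.mu (S.el i) : ℂ) = Complex.I ^ i := by
  have h : S.el i = S.el 1 ^ i := Subtype.ext (by simp [el])
  rw [h, map_pow, mu, monoidHomOfForallMemZpowers_apply_gen, Units.val_pow_eq_pow_val, Units.val_mk0]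

/-- The function `1 - μ²` on `Z`. -/
noncomputable def fA : S.Z → ℂ := fun x => 1 - ((S.mu * S.mu) x : ℂˣ)

/-- The function `1 - μ` on `Z`. -/
noncomputable def fB : S.Z → ℂ := fun x => 1 - (S.mu x : ℂ)

theorem fA_el (i : ℕ) : S.fA (S.el i) = 1 - (-1) ^ i := by
  simp only [fA, MonoidHom.mul_apply, Units.val_mul, mu_el, ← mul_pow, Complex.I_mul_I]

theorem fB_el (i : ℕ) : S.fB (S.el i) = 1 - Complex.I ^ i := by
  simp only [fB, mu_el]

/-- The first virtual character. -/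
noncomputable def A : G → ℂ := Cfsg.indFun S.Z S.fA

/-- The second virtual character. -/
noncomputable def B : G → ℂ := Cfsg.indFun S.Z S.fB

theorem generalized_indFun (l : S.Z →* ℂˣ) :
    Cfsg.IsGeneralizedCharacter G (Cfsg.indFun S.Z fun x => 1 - (l x : ℂ)) :=
  CharInd.isGeneralizedCharacter_indFun _ ⟨_, _, CharCore.isCharacter_one,
    CharCore.IsIrrCharacter.isCharacter (CharCore.isIrrCharacter_hom l), rfl⟩

theorem I_pow_table : Complex.I ^ 2 = -1 ∧ Complex.I ^ 3 = -Complex.I ∧ Complex.I ^ 4 = 1 ∧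
    Complex.I ^ 5 = Complex.I ∧ Complex.I ^ 6 = -1 ∧ Complex.I ^ 7 = -Complex.I := by
  refine ⟨Complex.I_sq, Complex.I_pow_three, Complex.I_pow_four, ?_, ?_, ?_⟩
  · rw [show (5 : ℕ) = 4 + 1 from rfl, pow_add, Complex.I_pow_four, one_mul, pow_one]
  · rw [show (6 : ℕ) = 4 + 2 from rfl, pow_add, Complex.I_pow_four, one_mul, Complex.I_sq]
  · rw [show (7 : ℕ) = 4 + 3 from rfl, pow_add, Complex.I_pow_four, one_mul, Complex.I_pow_three]

theorem fA_zero : S.fA (S.el 0) = 0 ∧ S.fA (S.el 4) = 0 := by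
  constructor <;> rw [fA_el] <;> norm_num

theorem fB_zero : S.fB (S.el 0) = 0 ∧ S.fB (S.el 4) = 0 := by
  constructor <;> rw [fB_el] <;> simp [I_pow_table]

theorem A_values : S.A 1 = 0 ∧ S.A (S.e ^ 1) = 4 ∧ S.A (S.e ^ 2) = 0 ∧ S.A (S.e ^ 3) = 4 ∧
    S.A (S.e ^ 4) = 0 ∧ S.A (S.e ^ 5) = 4 ∧ S.A (S.e ^ 6) = 0 ∧ S.A (S.e ^ 7) = 4 := by
  obtain ⟨h0, h4⟩ := S.fA_zero
  refine ⟨S.indFun_of_sq h0 h4 (one_pow 2), ?_, ?_, ?_,
    S.indFun_of_sq h0 h4 (by rw [← pow_mul]; exact S.e_pow_eight), ?_, ?_, ?_⟩ <;>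
  · rw [A, S.indFun_pow h0 h4 (by omega), fA_el, fA_el]
    norm_num

theorem B_values : S.B 1 = 0 ∧ S.B (S.e ^ 1) = 2 ∧ S.B (S.e ^ 2) = 4 ∧ S.B (S.e ^ 3) = 2 ∧
    S.B (S.e ^ 4) = 0 ∧ S.B (S.e ^ 5) = 2 ∧ S.B (S.e ^ 6) = 4 ∧ S.B (S.e ^ 7) = 2 := by
  obtain ⟨h0, h4⟩ := S.fB_zero
  obtain ⟨i2, i3, i4, i5, i6, i7⟩ := I_pow_table
  refine ⟨S.indFun_of_sq h0 h4 (one_pow 2), ?_, ?_, ?_,
    S.indFun_of_sq h0 h4 (by rw [← pow_mul]; exact S.e_pow_eight), ?_, ?_, ?_⟩ <;>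
  · rw [B, S.indFun_pow h0 h4 (by omega), S.el_mod (3 * _), fB_el, fB_el]
    norm_num [i2, i3, i4, i5, i6, i7]

theorem inner_expand (f : S.Z → ℂ) (F : G → ℂ) :
    Cfsg.classInner f (fun x : S.Z => F x) = (8 : ℂ)⁻¹ *
      (f (S.el 0) * conj (F 1) + f (S.el 1) * conj (F (S.e ^ 1)) + f (S.el 2) * conj (F (S.e ^ 2)) +
        f (S.el 3) * conj (F (S.e ^ 3)) + f (S.el 4) * conj (F (S.e ^ 4)) +
        f (S.el 5) * conj (F (S.e ^ 5)) + f (S.el 6) * conj (F (S.e ^ 6)) +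
        f (S.el 7) * conj (F (S.e ^ 7))) := by
  rw [Cfsg.classInner, show Nat.card S.Z = 8 from S.card_zpowers_e, S.sum_Z, Fin.sum_univ_eight,
    ← pow_zero S.e]
  rfl

theorem A_inner : Cfsg.classInner S.A S.A = 4 ∧ Cfsg.classInner S.A S.B = 2 ∧
    Cfsg.classInner S.B S.B = 3 := by
  have hA : Cfsg.IsClassFunction G S.A := CharInd.isClassFunction_indFun _ _
  have hB : Cfsg.IsClassFunction G S.B := CharInd.isClassFunction_indFun _ _
  obtain ⟨a0, a1, a2, a3, a4, a5, a6, a7⟩ := S.A_values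
  obtain ⟨b0, b1, b2, b3, b4, b5, b6, b7⟩ := S.B_values
  obtain ⟨i2, i3, i4, i5, i6, i7⟩ := I_pow_table
  refine ⟨?_, ?_, ?_⟩
  · rw [show Cfsg.classInner S.A S.A = _ from CharInd.classInner_indFun_left S.Z S.fA hA,
      inner_expand, a0, a1, a2, a3, a4, a5, a6, a7]
    simp only [fA_el, map_zero, map_ofNat]
    norm_num
  · rw [show Cfsg.classInner S.A S.B = _ from CharInd.classInner_indFun_left S.Z S.fA hB,
      inner_expand, b0, b1, b2, b3, b4, b5, b6, b7]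
    simp only [fA_el, map_zero, map_ofNat]
    norm_num
  · rw [show Cfsg.classInner S.B S.B = _ from CharInd.classInner_indFun_left S.Z S.fB hB,
      inner_expand, b0, b1, b2, b3, b4, b5, b6, b7]
    simp only [fB_el, map_zero, map_ofNat, i2, i3, i4, i5, i6, i7, pow_zero, pow_one]
    ring

/-- The multiplicity of `χ` in `A`. -/
noncomputable def a (χ : Cfsg.IrrCharacter G) : ℤ :=
  (CharCore.IsGeneralizedCharacter.exists_classInner_irr_eq_intCast
    (S.generalized_indFun (S.mu * S.mu)) χ).choose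

/-- The multiplicity of `χ` in `B`. -/
noncomputable def b (χ : Cfsg.IrrCharacter G) : ℤ :=
  (CharCore.IsGeneralizedCharacter.exists_classInner_irr_eq_intCast
    (S.generalized_indFun S.mu) χ).choose

theorem a_spec (χ : Cfsg.IrrCharacter G) : Cfsg.classInner S.A (χ : G → ℂ) = (S.a χ : ℂ) :=
  (CharCore.IsGeneralizedCharacter.exists_classInner_irr_eq_intCast
    (S.generalized_indFun (S.mu * S.mu)) χ).choose_spec

theorem b_spec (χ : Cfsg.IrrCharacter G) : Cfsg.classInner S.B (χ : G → ℂ) = (S.b χ : ℂ) :=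
  (CharCore.IsGeneralizedCharacter.exists_classInner_irr_eq_intCast
    (S.generalized_indFun S.mu) χ).choose_spec

theorem b_eq (χ : Cfsg.IrrCharacter G) :
    Cfsg.classInner S.fB (fun x : S.Z => (χ : G → ℂ) x) = (S.b χ : ℂ) := by
  rw [← CharInd.classInner_indFun_left S.Z S.fB (CharCore.irr_isClassFunction χ)]
  exact S.b_spec χ

theorem conj_values {χ : G → ℂ} (hχ : Cfsg.IsCharacter G χ) :
    χ (S.e ^ 3) = χ (S.e ^ 1) ∧ χ (S.e ^ 7) = χ (S.e ^ 5) ∧ χ (S.e ^ 6) = χ (S.e ^ 2) ∧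
      conj (χ (S.e ^ 1)) = χ (S.e ^ 5) ∧ conj (χ (S.e ^ 5)) = χ (S.e ^ 1) ∧
      conj (χ (S.e ^ 2)) = χ (S.e ^ 2) := by
  have hc : ∀ i : ℕ, χ (S.e ^ (3 * i)) = χ (S.e ^ i) := fun i => by
    rw [← S.u_conj_pow]; exact CharInd.isClassFunction_of_isCharacter hχ _ _
  have h7 : χ (S.e ^ 7) = χ (S.e ^ 5) := by
    rw [← hc 5, S.e_pow_mod (3 * 5)]
  have hinv : ∀ i j : ℕ, (i + j) % 8 = 0 → conj (χ (S.e ^ i)) = χ (S.e ^ j) := fun i j h => by
    rw [← CharCore.IsCharacter.apply_inv hχ]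
    congr 1
    exact inv_eq_of_mul_eq_one_right (by rw [← pow_add, S.e_pow_mod, h, pow_zero])
  refine ⟨hc 1, h7, hc 2, (hinv 1 7 rfl).trans h7, (hinv 5 3 rfl).trans (hc 1),
    (hinv 2 6 rfl).trans (hc 2)⟩

theorem a_formula (χ : Cfsg.IrrCharacter G) :
    2 * (S.a χ : ℂ) = (χ : G → ℂ) (S.e ^ 1) + (χ : G → ℂ) (S.e ^ 5) := by
  obtain ⟨h3, h7, h6, c1, c5, c2⟩ := S.conj_values (CharCore.irr_isCharacter χ)
  rw [← S.a_spec, show Cfsg.classInner S.A _ = _ from
    CharInd.classInner_indFun_left S.Z S.fA (CharCore.irr_isClassFunction χ), inner_expand,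
    h3, h7, h6, c1, c5, c2]
  simp only [fA_el]
  norm_num
  ring

theorem b_formula (χ : Cfsg.IrrCharacter G) :
    4 * (S.b χ : ℂ) =
      (χ : G → ℂ) (S.e ^ 1) + (χ : G → ℂ) (S.e ^ 5) + 2 * (χ : G → ℂ) (S.e ^ 2) := by
  obtain ⟨h3, h7, h6, c1, c5, c2⟩ := S.conj_values (CharCore.irr_isCharacter χ)
  obtain ⟨i2, i3, i4, i5, i6, i7⟩ := I_pow_table
  rw [← S.b_eq, inner_expand, h3, h7, h6, c1, c5, c2]
  simp only [fB_el, i2, i3, i4, i5, i6, i7, pow_zero, pow_one]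
  ring

/-- The trivial character of `G`. -/
noncomputable def triv : Cfsg.IrrCharacter G := ⟨1, CharCore.isIrrCharacter_one⟩

theorem a_triv : S.a triv = 1 := by
  have h := S.a_formula triv
  simp only [triv, Pi.one_apply] at h
  have : ((2 * S.a triv : ℤ) : ℂ) = ((2 : ℤ) : ℂ) := by
    push_cast
    simp only [triv]
    linear_combination h
  have := Int.cast_injective (α := ℂ) this
  omega

theorem b_triv : S.b triv = 1 := by
  have h := S.b_formula triv
  simp only [triv, Pi.one_apply] at h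
  have : ((4 * S.b triv : ℤ) : ℂ) = ((4 : ℤ) : ℂ) := by
    push_cast
    simp only [triv]
    linear_combination h
  have := Int.cast_injective (α := ℂ) this
  omega

theorem sum_coeff :
    (∑ χ : Cfsg.IrrCharacter G, S.a χ * S.a χ = 4) ∧
    (∑ χ : Cfsg.IrrCharacter G, S.a χ * S.b χ = 2) ∧
    (∑ χ : Cfsg.IrrCharacter G, S.b χ * S.b χ = 3) := by
  have hA : Cfsg.IsClassFunction G S.A := CharInd.isClassFunction_indFun _ _
  have hB : Cfsg.IsClassFunction G S.B := CharInd.isClassFunction_indFun _ _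
  obtain ⟨h1, h2, h3⟩ := S.A_inner
  rw [CharCore.classInner_eq_sum hA hA] at h1
  rw [CharCore.classInner_eq_sum hA hB] at h2
  rw [CharCore.classInner_eq_sum hB hB] at h3
  simp only [a_spec, b_spec, map_intCast] at h1 h2 h3
  refine ⟨?_, ?_, ?_⟩ <;> refine Int.cast_injective (α := ℂ) ?_ <;> push_cast <;> assumption

theorem sum_b_sq {g : G} (hg : g ^ 2 = 1) :
    ∑ χ : Cfsg.IrrCharacter G, (S.b χ : ℂ) * (χ : G → ℂ) g = 0 := by
  have hB : Cfsg.IsClassFunction G S.B := CharInd.isClassFunction_indFun _ _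
  have h : S.B g = 0 := S.indFun_of_sq S.fB_zero.1 S.fB_zero.2 hg
  rw [CharCore.eq_sum_classInner hB] at h
  simpa [b_spec] using h

/-- The sum of a character over a subgroup is divisible by its order. -/
theorem exists_sum_subgroup (H : Subgroup G) [Fintype H] (χ : Cfsg.IrrCharacter G) :
    ∃ n : ℤ, ∑ x : H, (χ : G → ℂ) x = (Nat.card H : ℂ) * n := by
  obtain ⟨k, hk⟩ := CharCore.IsCharacter.exists_classInner_eq_natCast
    (CharCore.isCharacter_restrict (CharCore.irr_isCharacter χ) H)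
    (CharCore.isCharacter_one (G := H))
  refine ⟨k, ?_⟩
  have h0 : (Nat.card H : ℂ) ≠ 0 := Nat.cast_ne_zero.mpr Nat.card_pos.ne'
  simp only [Cfsg.classInner, Pi.one_apply, map_one, mul_one] at hk
  rw [inv_mul_eq_iff_eq_mul₀ h0] at hk
  rw [Int.cast_natCast]
  exact hk

theorem congr_Z (χ : Cfsg.IrrCharacter G) {d z : ℤ} (hd : (χ : G → ℂ) 1 = d)
    (hz : (χ : G → ℂ) S.t = z) : 8 ∣ d + z + 2 * S.a χ + 4 * S.b χ := by
  obtain ⟨n, hn⟩ := exists_sum_subgroup S.Z χ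
  obtain ⟨h3, h7, h6, -⟩ := S.conj_values (CharCore.irr_isCharacter χ)
  rw [show Nat.card S.Z = 8 from S.card_zpowers_e, S.sum_Z, Fin.sum_univ_eight] at hn
  refine ⟨n, Int.cast_injective (α := ℂ) ?_⟩
  simp only [el] at hn
  norm_num [S.e_pow_four, hd, hz] at hn ⊢
  have ha := S.a_formula χ
  have hb := S.b_formula χ
  rw [pow_one] at ha hb h3
  linear_combination hn + ha + hb - h3 - h7 - h6

theorem congr_syl [IsSimpleGroup G] (χ : Cfsg.IrrCharacter G) {d z : ℤ} (hd : (χ : G → ℂ) 1 = d)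
    (hz : (χ : G → ℂ) S.t = z) : 16 ∣ d + 5 * z - 2 * S.a χ + 12 * S.b χ := by
  obtain ⟨n, hn⟩ := exists_sum_subgroup S.syl χ
  have hcl : ∀ {x y : G}, IsConj x y → (χ : G → ℂ) y = (χ : G → ℂ) x := by
    intro x y h
    obtain ⟨c, rfl⟩ := isConj_iff.mp h
    exact CharCore.irr_isClassFunction χ x c
  have hu2 : orderOf S.u = 2 := orderOf_eq_prime (by rw [pow_two]; exact S.u_mul_self)
    (fun h => S.u_notMem_e 0 (by rw [h, pow_zero]))
  have heven : ∀ i, (χ : G → ℂ) (S.u * S.e ^ (2 * i)) = z := fun i => by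
    rw [hcl ((S.conj_invol hu2).trans (S.isConj_u_even i)), hz]
  have hodd : ∀ i, (χ : G → ℂ) (S.u * S.e ^ (2 * i + 1)) = (χ : G → ℂ) (S.e ^ 2) := fun i =>
    hcl (S.isConj_u_odd i)
  have e0 := heven 0; have e1 := heven 1; have e2 := heven 2; have e3 := heven 3
  have o0 := hodd 0; have o1 := hodd 1; have o2 := hodd 2; have o3 := hodd 3
  obtain ⟨h3, h7, h6, -⟩ := S.conj_values (CharCore.irr_isCharacter χ)
  rw [S.card_syl, S.sum_syl (fun x => (χ : G → ℂ) x), Fin.sum_univ_eight, Fin.sum_univ_eight] at hn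
  refine ⟨n, Int.cast_injective (α := ℂ) ?_⟩
  norm_num at e0 e1 e2 e3 o0 o1 o2 o3
  rw [S.e_pow_four] at e2
  norm_num [S.e_pow_four, hd, hz, e0, e1, e2, e3, o0, o1, o2, o3] at hn ⊢
  have ha := S.a_formula χ
  have hb := S.b_formula χ
  rw [pow_one] at ha hb h3
  linear_combination hn - h3 - h7 - h6 - ha + 3 * hb

theorem pairs_eq [IsSimpleGroup G] (g : G) :
    (Nat.card {p : G × G // orderOf p.1 = 2 ∧ orderOf p.2 = 2 ∧ p.1 * p.2 = g} : ℂ) *
        Nat.card G =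
      (Nat.card {y : G // orderOf y = 2} : ℂ) ^ 2 *
        ∑ χ : Cfsg.IrrCharacter G,
          (χ : G → ℂ) S.t ^ 2 * conj ((χ : G → ℂ) g) / (χ : G → ℂ) 1 := by
  have hiff : ∀ y : G, IsConj S.t y ↔ orderOf y = 2 := fun y => ⟨fun h => by
    obtain ⟨w, rfl⟩ := isConj_iff.mp h
    rw [← MulAut.conj_apply, MulEquiv.orderOf_eq, S.ht], fun h => S.conj_invol h⟩
  have h := InvChar68.card_pairs_mul_card S.t g
  simp only [hiff] at h
  exact h

/-- The class equation of involution pairs, paired with `B`. -/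
theorem equation [IsSimpleGroup G] :
    (Nat.card {y : G // orderOf y = 2} : ℂ) ^ 2 *
        ∑ χ : Cfsg.IrrCharacter G, (χ : G → ℂ) S.t ^ 2 * (S.b χ : ℂ) / (χ : G → ℂ) 1 =
      2 * Nat.card G := by
  set N : G → ℂ := fun g =>
    (Nat.card {p : G × G // orderOf p.1 = 2 ∧ orderOf p.2 = 2 ∧ p.1 * p.2 = g} : ℂ) * Nat.card G
    with hN
  have hsum : ∑ x : S.Z, S.fB x * N (x : G) = 16 * Nat.card G := by
    have hodd : ∀ i, i % 2 = 1 → N (S.e ^ i) = 0 := fun i hi => by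
      simp only [hN, S.card_pairs_e_odd hi, Nat.cast_zero, zero_mul]
    have n2 : N (S.e ^ 2) = 4 * Nat.card G := by simp only [hN, S.card_pairs_e2, Nat.cast_ofNat]
    have n6 : N (S.e ^ 6) = 4 * Nat.card G := by
      have hχ := fun χ : Cfsg.IrrCharacter G => (S.conj_values (CharCore.irr_isCharacter χ)).2.2.1
      rw [← n2]
      simp only [hN, S.pairs_eq, hχ]
    obtain ⟨i2, i3, i4, i5, i6, i7⟩ := I_pow_table
    rw [S.sum_Z, Fin.sum_univ_eight]
    simp only [fB_el]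
    simp only [el]
    norm_num [i2, i3, i4, i5, i6, i7, n2, n6, hodd 1 rfl, hodd 3 rfl, hodd 5 rfl, hodd 7 rfl]
    have h1 := hodd 1 rfl
    rw [pow_one] at h1
    linear_combination (1 - Complex.I) * h1
  simp only [hN, S.pairs_eq] at hsum
  have hfour : ∀ χ : Cfsg.IrrCharacter G,
      ∑ x : S.Z, S.fB x * conj ((χ : G → ℂ) x) = 8 * (S.b χ : ℂ) := by
    intro χ
    have h := S.b_eq χ
    rw [Cfsg.classInner, show Nat.card S.Z = 8 from S.card_zpowers_e] at h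
    rw [← h, ← mul_assoc, show ((8 : ℕ) : ℂ) = 8 by norm_num, mul_inv_cancel₀ (by norm_num), one_mul]
  have hswap : ∀ n : ℂ, ∑ x : S.Z, S.fB x * (n ^ 2 * ∑ χ : Cfsg.IrrCharacter G,
      (χ : G → ℂ) S.t ^ 2 * conj ((χ : G → ℂ) x) / (χ : G → ℂ) 1) =
      n ^ 2 * 8 *
        ∑ χ : Cfsg.IrrCharacter G, (χ : G → ℂ) S.t ^ 2 * (S.b χ : ℂ) / (χ : G → ℂ) 1 := by
    intro n
    simp only [Finset.mul_sum]
    rw [Finset.sum_comm]
    refine Finset.sum_congr rfl fun χ _ => ?_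
    rw [show n ^ 2 * 8 * ((χ : G → ℂ) S.t ^ 2 * (S.b χ : ℂ) / (χ : G → ℂ) 1) =
      n ^ 2 * (χ : G → ℂ) S.t ^ 2 / (χ : G → ℂ) 1 * (8 * (S.b χ : ℂ)) by ring,
      ← hfour χ, Finset.mul_sum]
    exact Finset.sum_congr rfl fun x _ => by ring
  rw [hswap] at hsum
  linear_combination hsum / 8

end Cfsg.Agent.GL23Inv.Setup
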