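import Cfsg.Agent.GL23Inv.Local

/-!
# An involution with centraliser `GL(2,3)`: Sylow subgroup, fusion and counts
-/

set_option autoImplicit false
set_option linter.unusedSectionVars false

namespace Cfsg.Agent.GL23Inv

open Subgroup Cfsg.Agent.Involution

namespace Setup

variable {G : Type*} [Group G] (S : Setup G)

variable [Finite G]

theorem exists_sylow : ∃ P : Sylow 2 G, (P : Subgroup G) = S.syl := by
  haveI : Fact (Nat.Prime 2) := ⟨Nat.prime_two⟩
  have hp : IsPGroup 2 S.syl := IsPGroup.of_card (n := 4) (by rw [card_syl]; rfl)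
  obtain ⟨P, hP⟩ := hp.exists_le_sylow
  refine ⟨P, le_antisymm ?_ hP⟩
  have htP : S.t ∈ (P : Subgroup G) := hP ⟨4, Or.inl S.e_pow_four.symm⟩
  haveI : Nontrivial (P : Subgroup G) := by
    refine ⟨⟨⟨S.t, htP⟩, 1, fun h => S.t_ne_one (congrArg Subtype.val h)⟩⟩
  haveI := P.isPGroup'.center_nontrivial
  obtain ⟨n, hn0, hn⟩ := (P.isPGroup'.to_subgroup (center (P : Subgroup G))).nontrivial_iff_card.mp
    inferInstance
  obtain ⟨z, hz⟩ := exists_prime_orderOf_dvd_card' 2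
    (show 2 ∣ Nat.card (center (P : Subgroup G)) by rw [hn]; exact dvd_pow_self 2 (by omega))
  have hcomm : ∀ y ∈ (P : Subgroup G), y * ((z : (P : Subgroup G)) : G) = ((z : (P : Subgroup G)) : G) * y :=
    fun y hy => congrArg Subtype.val (mem_center_iff.mp z.2 ⟨y, hy⟩)
  set w : G := ((z : (P : Subgroup G)) : G) with hw
  have hw2 : orderOf w = 2 := by rw [hw, orderOf_submonoid, orderOf_submonoid, hz]
  have hwH : w ∈ centralizer ({S.t} : Set G) := mem_centralizer_singleton.mpr (hcomm _ htP).symm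
  obtain ⟨i, hi⟩ := S.mem_zpowers_of_comm_e2 hwH (hcomm _ (hP ⟨2, Or.inl rfl⟩)).symm
  have hwt : w = S.t := by
    rw [hi, ← S.e_pow_four, e_pow_eq_iff]
    have h1 : w ^ 2 = 1 := by rw [← hw2]; exact pow_orderOf_eq_one w
    rw [hi, ← pow_mul, ← pow_zero S.e, e_pow_eq_iff] at h1
    have h2 : i % 8 ≠ 0 := fun h => by
      rw [hi, e_pow_mod, h, pow_zero, orderOf_one] at hw2; omega
    omega
  have hle : (P : Subgroup G) ≤ centralizer ({S.t} : Set G) := fun y hy =>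
    mem_centralizer_singleton.mpr (hwt ▸ hcomm y hy)
  obtain ⟨m, hm⟩ := IsPGroup.iff_card.mp P.isPGroup'
  have h48 := card_dvd_of_le hle
  rw [S.card_H, hm] at h48
  have h16 : 2 ^ m ∣ 16 := (Nat.Coprime.dvd_of_dvd_mul_right (Nat.Coprime.pow_left m
    (show Nat.Coprime 2 3 by decide)) (by rwa [show (48 : ℕ) = 16 * 3 from rfl] at h48))
  refine (eq_of_le_of_card_ge hP ?_).ge
  rw [hm, card_syl]
  exact Nat.le_of_dvd (by norm_num) h16

include S in
theorem card_eq_sixteen_mul_odd : ∃ m : ℕ, Nat.card G = 16 * m ∧ m % 2 = 1 := by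
  haveI : Fact (Nat.Prime 2) := ⟨Nat.prime_two⟩
  obtain ⟨P, hP⟩ := S.exists_sylow
  refine ⟨(P : Subgroup G).index, ?_, ?_⟩
  · rw [← Subgroup.card_mul_index (P : Subgroup G), hP, card_syl]
  · have := P.not_dvd_index
    omega

theorem isConj_u_even (i : ℕ) : IsConj S.u (S.u * S.e ^ (2 * i)) := by
  refine isConj_iff.mpr ⟨S.e ^ i, ?_⟩
  rw [u_e_mul, mul_assoc]
  congr 1
  rw [mul_inv_eq_iff_eq_mul, ← pow_add]
  congr 1
  omega

theorem isConj_u_odd (i : ℕ) : IsConj (S.e ^ 2) (S.u * S.e ^ (2 * i + 1)) := by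
  obtain ⟨a, b, c, d, hw0, hw⟩ := exists_conj_UE ⟨i % 4, Nat.mod_lt _ (by norm_num)⟩
  generalize !![a, b; c, d] = W at hw0 hw
  haveI : Fact (Nat.Prime 3) := ⟨Nat.prime_three⟩
  have hdet : W.det ≠ 0 := by rw [Matrix.det_fin_two]; exact hw0
  let g : X := Matrix.GeneralLinearGroup.mkOfDetNeZero W hdet
  have hX : g * (U * E ^ (2 * (i % 4) + 1)) = E ^ 2 * g := Units.ext hw
  have hG := congrArg S.φ hX
  simp only [map_mul, map_pow] at hG
  refine (isConj_iff.mpr ⟨S.φ g, ?_⟩).symm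
  rw [S.e_pow_mod (2 * i + 1), show (2 * i + 1) % 8 = 2 * (i % 4) + 1 by omega]
  exact mul_inv_eq_iff_eq_mul.mpr hG

theorem conj_invol [IsSimpleGroup G] {x : G} (hx : orderOf x = 2) : IsConj S.t x := by
  haveI : Fact (Nat.Prime 2) := ⟨Nat.prime_two⟩
  obtain ⟨P, hP⟩ := S.exists_sylow
  have hu1 : S.u ≠ 1 := fun h => S.u_notMem_e 0 (by rw [h, pow_zero])
  have hu2 : orderOf S.u = 2 := orderOf_eq_prime (by rw [pow_two]; exact S.u_mul_self) hu1
  -- involutions of the Sylow subgroup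
  have hinv : ∀ g ∈ S.syl, orderOf g = 2 → g = S.t ∨ ∃ i, g = S.u * S.e ^ (2 * i) := by
    rintro g ⟨i, rfl | rfl⟩ hg
    · left
      rw [← S.e_pow_four, e_pow_eq_iff]
      have h1 := pow_orderOf_eq_one (S.e ^ i)
      rw [hg, ← pow_mul, ← pow_zero S.e, e_pow_eq_iff] at h1
      have h2 : i % 8 ≠ 0 := fun h => by
        rw [e_pow_mod, h, pow_zero, orderOf_one] at hg; omega
      omega
    · rcases Nat.mod_two_eq_zero_or_one i with h | h
      · exact Or.inr ⟨i / 2, by rw [show 2 * (i / 2) = i by omega]⟩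
      · exfalso
        have h1 := mul_self_of_orderOf hg
        rw [mul_assoc, ← mul_assoc (S.e ^ i), u_e_mul, mul_assoc, ← mul_assoc S.u, u_mul_self,
          one_mul, ← pow_add, ← pow_zero S.e, e_pow_eq_iff] at h1
        omega
  -- the quaternion subgroup of index two
  let Q : Subgroup G :=
    { carrier := {g | ∃ i : ℕ, (g = S.e ^ i ∧ i % 2 = 0) ∨ (g = S.u * S.e ^ i ∧ i % 2 = 1)}
      one_mem' := ⟨0, Or.inl ⟨(pow_zero _).symm, rfl⟩⟩
      mul_mem' := by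
        rintro a b ⟨i, ⟨rfl, hi⟩ | ⟨rfl, hi⟩⟩ ⟨j, ⟨rfl, hj⟩ | ⟨rfl, hj⟩⟩
        · exact ⟨i + j, Or.inl ⟨(pow_add _ _ _).symm, by omega⟩⟩
        · exact ⟨3 * i + j, Or.inr ⟨by rw [← mul_assoc, u_e_mul, mul_assoc, pow_add], by omega⟩⟩
        · exact ⟨i + j, Or.inr ⟨by rw [mul_assoc, pow_add], by omega⟩⟩
        · refine ⟨3 * i + j, Or.inl ⟨?_, by omega⟩⟩
          rw [mul_assoc, ← mul_assoc (S.e ^ i), u_e_mul, mul_assoc, ← mul_assoc S.u, u_mul_self,
            one_mul, pow_add]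
      inv_mem' := by
        rintro a ⟨i, ⟨rfl, hi⟩ | ⟨rfl, hi⟩⟩
        · refine ⟨7 * i, Or.inl ⟨inv_eq_of_mul_eq_one_right ?_, by omega⟩⟩
          rw [← pow_add, e_pow_mod, show (i + 7 * i) % 8 = 0 by omega, pow_zero]
        · refine ⟨5 * i, Or.inr ⟨inv_eq_of_mul_eq_one_right ?_, by omega⟩⟩
          rw [mul_assoc, ← mul_assoc (S.e ^ i), u_e_mul, mul_assoc, ← mul_assoc S.u, u_mul_self,
            one_mul, ← pow_add, e_pow_mod, show (3 * i + 5 * i) % 8 = 0 by omega, pow_zero] }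
  have hQmem : ∀ {g : G}, g ∈ Q ↔
      ∃ i : ℕ, (g = S.e ^ i ∧ i % 2 = 0) ∨ (g = S.u * S.e ^ i ∧ i % 2 = 1) := Iff.rfl
  have hQu : ∀ i, i % 2 = 0 → S.u * S.e ^ i ∉ Q := by
    intro i hi hmem
    obtain ⟨j, ⟨hj, hj2⟩ | ⟨hj, hj2⟩⟩ := hQmem.mp hmem
    · refine S.u_notMem_e (j + 7 * i) ?_
      rw [pow_add, ← hj, mul_assoc, ← pow_add, S.e_pow_mod, show (i + 7 * i) % 8 = 0 by omega,
        pow_zero, mul_one]
    · have := (S.e_pow_eq_iff _ _).mp (mul_left_cancel hj)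
      omega
  have hrel : Q.relIndex (P : Subgroup G) = 2 := by
    rw [hP, relIndex]
    refine index_eq_two_iff.mpr ⟨⟨S.u, 0, Or.inr (by rw [pow_zero, mul_one])⟩, fun b => ?_⟩
    obtain ⟨b, hb⟩ := b
    simp only [mem_subgroupOf, MulMemClass.coe_mul]
    have hu0 : S.u ∉ Q := by simpa using hQu 0 rfl
    obtain ⟨i, rfl | rfl⟩ := hb
    · rcases Nat.mod_two_eq_zero_or_one i with h | h
      · refine Or.inr ⟨hQmem.mpr ⟨i, Or.inl ⟨rfl, h⟩⟩, ?_⟩
        rw [u_e_mul]; exact hQu _ (by omega)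
      · refine Or.inl ⟨hQmem.mpr ⟨3 * i, Or.inr ⟨S.u_e_mul i, by omega⟩⟩, fun hm => ?_⟩
        obtain ⟨j, ⟨hj, hj2⟩ | ⟨hj, hj2⟩⟩ := hQmem.mp hm
        · have := (S.e_pow_eq_iff _ _).mp hj; omega
        · refine S.u_notMem_e (i + 7 * j) ?_
          rw [pow_add, hj, mul_assoc, ← pow_add, S.e_pow_mod, show (j + 7 * j) % 8 = 0 by omega,
            pow_zero, mul_one]
    · have hcomp : S.u * S.e ^ i * S.u = S.e ^ (3 * i) := by
        conv_lhs => rw [← S.u_inv]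
        nth_rw 2 [S.u_inv]
        rw [← u_conj_pow, u_inv]
      rw [hcomp]
      rcases Nat.mod_two_eq_zero_or_one i with h | h
      · exact Or.inl ⟨hQmem.mpr ⟨3 * i, Or.inl ⟨rfl, by omega⟩⟩, hQu i h⟩
      · refine Or.inr ⟨hQmem.mpr ⟨i, Or.inr ⟨rfl, h⟩⟩, fun hm => ?_⟩
        obtain ⟨j, ⟨hj, hj2⟩ | ⟨hj, hj2⟩⟩ := hQmem.mp hm
        · have := (S.e_pow_eq_iff _ _).mp hj; omega
        · refine S.u_notMem_e (3 * i + 7 * j) ?_
          rw [pow_add, hj, mul_assoc, ← pow_add, S.e_pow_mod, show (j + 7 * j) % 8 = 0 by omega,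
            pow_zero, mul_one]
  have hut : IsConj S.t S.u := by
    by_contra hne
    obtain ⟨N, hN, hN2, -⟩ := InvChar68.thompson_transfer P Q hrel hu2
      (by rw [hP]; exact ⟨0, Or.inr (by rw [pow_zero, mul_one])⟩)
      (fun g hg hgQ => by
        rw [hP] at hg
        have ho : orderOf (g * S.u * g⁻¹) = 2 := by
          rw [← MulAut.conj_apply, MulEquiv.orderOf_eq, hu2]
        rcases hinv _ hg ho with h | ⟨i, h⟩
        · exact hne (isConj_iff.mpr ⟨g, h⟩).symm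
        · rw [h] at hgQ; exact hQu _ (by omega) hgQ)
    rcases hN.eq_bot_or_eq_top with h | h
    · rw [h, index_bot] at hN2
      have := card_dvd_of_le (le_top : centralizer ({S.t} : Set G) ≤ ⊤)
      rw [S.card_H, card_top, hN2] at this
      omega
    · rw [h, index_top] at hN2; omega
  obtain ⟨g, hg⟩ : ∃ g : G, g * x * g⁻¹ ∈ (P : Subgroup G) := by
    have hp : IsPGroup 2 (zpowers x) := IsPGroup.of_card (n := 1) (by rw [Nat.card_zpowers, hx]; rfl)
    obtain ⟨P', hP'⟩ := hp.exists_le_sylow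
    obtain ⟨g, hg⟩ := MulAction.exists_smul_eq G P' P
    refine ⟨g, ?_⟩
    rw [← hg]
    exact ⟨x, hP' (mem_zpowers x), rfl⟩
  rw [hP] at hg
  have hc : IsConj x (g * x * g⁻¹) := isConj_iff.mpr ⟨g, rfl⟩
  rcases hinv _ hg (by rw [← MulAut.conj_apply, MulEquiv.orderOf_eq, hx]) with h | ⟨i, h⟩
  · rw [h] at hc; exact hc.symm
  · rw [h] at hc
    exact hut.trans ((S.isConj_u_even i).trans hc.symm)

/-- Counting the elements of `G` with a property that confines them to `C(t)`. -/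
theorem card_transfer (P : G → Prop) (Q : M2 → Prop) [Fintype {M : M2 // Q M}]
    (hP : ∀ g, P g → g ∈ centralizer ({S.t} : Set G)) (hQ : ∀ M, Q M → d2 M ≠ 0)
    (hPQ : ∀ x : X, P (S.φ x) ↔ Q (x : M2)) :
    Nat.card {g : G // P g} = Fintype.card {M : M2 // Q M} := by
  haveI : Fact (Nat.Prime 3) := ⟨Nat.prime_three⟩
  rw [← Nat.card_eq_fintype_card]
  symm
  refine Nat.card_eq_of_bijective (fun M => ⟨S.φ (Matrix.GeneralLinearGroup.mkOfDetNeZero M.1
    (by rw [Matrix.det_fin_two]; simpa only [d2] using hQ _ M.2)), (hPQ _).mpr M.2⟩) ⟨fun a b h => ?_, fun g => ?_⟩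
  · exact Subtype.ext (congrArg Units.val (S.inj (congrArg Subtype.val h)))
  · obtain ⟨x, hx⟩ := S.exists_φ (hP _ g.2)
    refine ⟨⟨(x : M2), (hPQ x).mp (hx ▸ g.2)⟩, Subtype.ext ?_⟩
    show S.φ _ = g.1
    refine (congrArg S.φ ?_).trans hx
    exact Units.ext rfl

theorem orderOf_φ_eq_two (x : X) :
    orderOf (S.φ x) = 2 ↔ (x : M2) * (x : M2) = 1 ∧ (x : M2) ≠ 1 := by
  rw [S.φ_orderOf, orderOf_eq_prime_iff]
  refine and_congr ?_ ?_
  · rw [pow_two]
    exact ⟨fun h => congrArg Units.val h, fun h => Units.ext h⟩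
  · exact ⟨fun h hh => h (Units.ext hh), fun h hh => h (congrArg Units.val hh)⟩

theorem conj_φ_iff (x y z : X) :
    S.φ x * S.φ y * (S.φ x)⁻¹ = S.φ z ↔ (x : M2) * (y : M2) = (z : M2) * (x : M2) := by
  rw [mul_inv_eq_iff_eq_mul, ← map_mul, ← map_mul, S.inj.eq_iff]
  exact ⟨fun h => congrArg Units.val h, fun h => Units.ext h⟩

theorem mul_self_ne_zero_det {M : M2} (h : M * M = 1) : d2 M ≠ 0 := by
  haveI : Fact (Nat.Prime 3) := ⟨Nat.prime_three⟩
  intro h0
  have := congrArg Matrix.det h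
  rw [Matrix.det_mul, Matrix.det_one, show M.det = d2 M from Matrix.det_fin_two M, h0, mul_zero] at this
  exact zero_ne_one this

theorem e2_inv : (S.e ^ 2)⁻¹ = S.e ^ 6 :=
  inv_eq_of_mul_eq_one_right (by rw [← pow_add, e_pow_eight])

theorem card_pairs_e2 :
    Nat.card {p : G × G // orderOf p.1 = 2 ∧ orderOf p.2 = 2 ∧ p.1 * p.2 = S.e ^ 2} = 4 := by
  rw [card_pairs_eq_inverting (by
    rw [← pow_mul, e_pow_four]; exact S.t_ne_one)]
  rw [S.card_transfer _ (fun M => M * M = 1 ∧ M ≠ 1 ∧ M * ((E ^ 2 : X) : M2) = ((E ^ 6 : X) : M2) * M)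
    (fun g hg => S.mem_H_of_conj_pow (i := 2) (j := 6) (by omega) (by omega) (e2_inv S ▸ hg.2))
    (fun M hM => mul_self_ne_zero_det hM.1) (fun x => ?_)]
  · exact card_mat_E2_inverting
  · rw [e2_inv, S.orderOf_φ_eq_two, show S.e ^ 2 = S.φ (E ^ 2) from (map_pow _ _ _).symm,
      show S.e ^ 6 = S.φ (E ^ 6) from (map_pow _ _ _).symm, S.conj_φ_iff, and_assoc]

theorem no_invert_e (g : G) : g * S.e * g⁻¹ ≠ S.e⁻¹ := by
  intro h
  rw [show S.e⁻¹ = S.e ^ 7 from inv_eq_of_mul_eq_one_right (by rw [← pow_succ', e_pow_eight])] at h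
  obtain ⟨x, rfl⟩ := S.exists_φ (S.mem_H_of_conj_pow (i := 1) (j := 7) (by omega) (by omega)
    (by rw [pow_one]; exact h))
  rw [e, ← map_pow, S.conj_φ_iff] at h
  exact mat_not_real _ (d2_coe_ne_zero x) h

theorem card_pairs_e_odd {i : ℕ} (hi : i % 2 = 1) :
    Nat.card {p : G × G // orderOf p.1 = 2 ∧ orderOf p.2 = 2 ∧ p.1 * p.2 = S.e ^ i} = 0 := by
  rw [card_pairs_eq_inverting (by
    rw [← pow_mul, ← pow_zero S.e, ne_eq, e_pow_eq_iff]; omega)]
  refine Nat.card_eq_zero.mpr (Or.inl ⟨fun g => ?_⟩)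
  obtain ⟨g, -, h⟩ := g
  -- i is its own inverse modulo 8
  have h2 := congrArg (fun z => z ^ i) h
  simp only [conj_pow, inv_pow, ← pow_mul] at h2
  rw [S.e_pow_mod (i * i), show i * i % 8 = 1 by
    rw [Nat.mul_mod]
    obtain h | h | h | h : i % 8 = 1 ∨ i % 8 = 3 ∨ i % 8 = 5 ∨ i % 8 = 7 := by omega
    all_goals rw [h], pow_one] at h2
  exact S.no_invert_e g h2

theorem card_pairs_t : Nat.card {p : G × G // orderOf p.1 = 2 ∧ orderOf p.2 = 2 ∧ p.1 * p.2 = S.t} = 12 := by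
  have h := card_pairs_add_one S.ht
  rw [S.card_transfer (fun g => orderOf g = 2 ∧ Commute g S.t) (fun M => M * M = 1 ∧ M ≠ 1)
    (fun g hg => mem_centralizer_singleton.mpr hg.2) (fun M hM => mul_self_ne_zero_det hM.1)
    (fun x => ?_)] at h
  · rw [card_mat_invol] at h; omega
  · rw [S.orderOf_φ_eq_two]
    refine ⟨fun h => h.1, fun h => ⟨h, ?_⟩⟩
    exact mem_centralizer_singleton.mp (S.φ_mem x)

theorem g6_cube : S.g6 ^ 3 = S.t := by rw [g6, ← map_pow, G6_pow_three, S.φN]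

theorem g6_pow_six : S.g6 ^ 6 = 1 := by
  rw [show (6 : ℕ) = 3 * 2 from rfl, pow_mul, g6_cube, pow_two, mul_self_of_orderOf S.ht]

theorem g6_inv : S.g6⁻¹ = S.φ (G6 ^ 5) := by
  rw [map_pow, ← g6]
  exact inv_eq_of_mul_eq_one_right (by rw [← pow_succ', g6_pow_six])

theorem orderOf_g6 : orderOf S.g6 = 6 := by
  have h6 := orderOf_dvd_of_pow_eq_one S.g6_pow_six
  have h2 : ¬ orderOf S.g6 ∣ 2 := fun h => by
    rw [orderOf_dvd_iff_pow_eq_one, g6, ← map_pow, map_eq_one_iff _ S.inj] at h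
    exact G6_sq_ne_one h
  have h3 : ¬ orderOf S.g6 ∣ 3 := fun h => by
    rw [orderOf_dvd_iff_pow_eq_one, g6_cube] at h
    exact S.t_ne_one h
  have := Nat.le_of_dvd (by norm_num) h6
  interval_cases h : orderOf S.g6 <;> omega

theorem card_cent_g6 : Nat.card (centralizer ({S.g6} : Set G)) = 6 := by
  rw [show Nat.card (centralizer ({S.g6} : Set G)) = Nat.card {g : G // g * S.g6 = S.g6 * g} from
    Nat.card_congr (Equiv.subtypeEquivRight fun g => mem_centralizer_singleton)]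
  rw [S.card_transfer _ (fun M => d2 M ≠ 0 ∧ M * (G6 : M2) = (G6 : M2) * M)
    (fun g hg => mem_centralizer_singleton.mpr (by
      rw [← g6_cube]; exact (Commute.pow_right hg 3)))
    (fun M hM => hM.1) (fun x => ?_)]
  · exact card_mat_cent_G6
  · rw [g6, ← map_mul, ← map_mul, S.inj.eq_iff]
    exact ⟨fun h => ⟨d2_coe_ne_zero x, congrArg Units.val h⟩, fun h => Units.ext h.2⟩

theorem card_pairs_g6 :
    Nat.card {p : G × G // orderOf p.1 = 2 ∧ orderOf p.2 = 2 ∧ p.1 * p.2 = S.g6} = 6 := by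
  rw [card_pairs_eq_inverting (by rw [g6, ← map_pow, ne_eq, map_eq_one_iff _ S.inj]; exact G6_sq_ne_one)]
  rw [S.card_transfer _ (fun M => M * M = 1 ∧ M ≠ 1 ∧ M * (G6 : M2) = ((G6 ^ 5 : X) : M2) * M)
    (fun g hg => mem_centralizer_singleton.mpr (by
      have h := congrArg (fun z => z ^ 3) hg.2
      simp only [conj_pow, inv_pow, g6_cube, inv_of_orderOf S.ht] at h
      exact mul_inv_eq_iff_eq_mul.mp h))
    (fun M hM => mul_self_ne_zero_det hM.1) (fun x => ?_)]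
  · exact card_mat_G6_inverting
  · rw [S.orderOf_φ_eq_two, g6_inv, g6, S.conj_φ_iff, and_assoc]

theorem card_cent_e2 : Nat.card (centralizer ({S.e ^ 2} : Set G)) = 8 := by
  rw [← S.card_zpowers_e]
  suffices centralizer ({S.e ^ 2} : Set G) = zpowers S.e by rw [this]
  ext g
  rw [mem_centralizer_singleton]
  constructor
  · intro hg
    obtain ⟨i, rfl⟩ := S.mem_zpowers_of_comm_e2
      (S.mem_H_of_conj_pow (i := 2) (j := 2) (by omega) (by omega) (mul_inv_eq_iff_eq_mul.mpr hg)) hg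
    exact pow_mem (mem_zpowers _) i
  · rintro ⟨n, rfl⟩
    exact ((Commute.refl S.e).pow_right 2).zpow_left n

end Setup

end Cfsg.Agent.GL23Inv
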