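import Cfsg.Agent.GL23Inv.Mat
import Cfsg.Agent.InvChar68.IndexTwoTransfer
import Cfsg.Agent.Lib.Involution.Counting
import Mathlib.LinearAlgebra.Matrix.GeneralLinearGroup.Card
import Mathlib.Algebra.Field.ZMod

/-!
# An involution with centraliser `GL(2,3)`: local structure
-/

set_option autoImplicit false

namespace Cfsg.Agent.GL23Inv

open Subgroup Cfsg.Agent.Involution

theorem card_X : Nat.card X = 48 := by
  haveI : Fact (Nat.Prime 3) := ⟨Nat.prime_three⟩
  rw [Matrix.card_GL_field]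
  simp [Fin.prod_univ_two]

variable (G : Type*) [Group G]

/-- An involution `t` whose centraliser is the isomorphic image of `GL(2,3)`. -/
structure Setup where
  t : G
  φ : X →* G
  inj : Function.Injective φ
  range : φ.range = centralizer ({t} : Set G)
  φN : φ N = t

variable {G}

theorem X_central {z : X} (h : ∀ y, z * y = y * z) : z = 1 ∨ z = N := by
  rcases mat_central (z : M2) (congrArg Units.val (h E)) (congrArg Units.val (h U))
    (d2_coe_ne_zero z) with h1 | h1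
  · exact Or.inl (Units.ext h1)
  · exact Or.inr (Units.ext h1)

/-- A setup from the data of the statement. -/
theorem exists_setup [Finite G] (t : G) (ht : orderOf t = 2)
    (ψ : Subgroup.centralizer ({t} : Set G) ≃* X) : ∃ S : Setup G, S.t = t := by
  have htH : t ∈ centralizer ({t} : Set G) := mem_centralizer_singleton.mpr rfl
  have hc : ∀ y, ψ ⟨t, htH⟩ * y = y * ψ ⟨t, htH⟩ := by
    intro y
    obtain ⟨⟨x, hx⟩, rfl⟩ := ψ.surjective y
    rw [← map_mul, ← map_mul]
    exact congrArg ψ (Subtype.ext (mem_centralizer_singleton.mp hx).symm)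
  rcases X_central hc with h | h
  · exfalso
    rw [map_eq_one_iff ψ ψ.injective] at h
    have := congrArg Subtype.val h
    simp only [OneMemClass.coe_one] at this
    rw [this, orderOf_one] at ht
    omega
  refine ⟨⟨t, (centralizer ({t} : Set G)).subtype.comp ψ.symm.toMonoidHom, ?_, ?_, ?_⟩, rfl⟩
  · exact fun a b hab => ψ.symm.injective (Subtype.ext hab)
  · rw [MonoidHom.range_comp, MonoidHom.range_eq_top.mpr ψ.symm.surjective, ← MonoidHom.range_eq_map,
      range_subtype]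
  · show ((ψ.symm N : centralizer ({t} : Set G)) : G) = t
    rw [← h, MulEquiv.symm_apply_apply]

namespace Setup

variable (S : Setup G)

/-- The element of order 8. -/
def e : G := S.φ E

/-- The involution inverting the square of `e`. -/
def u : G := S.φ U

/-- The element of order 6. -/
def g6 : G := S.φ G6

theorem φ_mem (x : X) : S.φ x ∈ centralizer ({S.t} : Set G) := S.range ▸ ⟨x, rfl⟩

theorem exists_φ {g : G} (hg : g ∈ centralizer ({S.t} : Set G)) : ∃ x, S.φ x = g := by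
  rw [← S.range] at hg; exact hg

theorem φ_orderOf (x : X) : orderOf (S.φ x) = orderOf x := orderOf_injective _ S.inj x

theorem ht : orderOf S.t = 2 := by
  rw [← S.φN, S.φ_orderOf]
  exact orderOf_eq_prime (by rw [pow_two]; exact N_mul_self) N_ne_one

theorem t_ne_one : S.t ≠ 1 := fun h => by
  have := S.ht; rw [h, orderOf_one] at this; omega

theorem card_H : Nat.card (centralizer ({S.t} : Set G)) = 48 := by
  rw [← S.range, ← Nat.card_congr (MonoidHom.ofInjective S.inj).toEquiv, card_X]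

theorem e_pow_four : S.e ^ 4 = S.t := by rw [e, ← map_pow, E_pow_four, S.φN]

theorem e_pow_eight : S.e ^ 8 = 1 := by
  rw [show (8 : ℕ) = 4 * 2 from rfl, pow_mul, e_pow_four, pow_two, mul_self_of_orderOf S.ht]

theorem orderOf_e : orderOf S.e = 8 := by
  have h : orderOf S.e = 2 ^ (2 + 1) :=
    orderOf_eq_prime_pow (by rw [show (2 : ℕ) ^ 2 = 4 from rfl, e_pow_four]; exact S.t_ne_one)
      (by rw [show (2 : ℕ) ^ (2 + 1) = 8 from rfl, e_pow_eight])
  exact h

theorem e_pow_mod (n : ℕ) : S.e ^ n = S.e ^ (n % 8) := by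
  rw [← pow_mod_orderOf, orderOf_e]

theorem e_pow_eq_iff (i j : ℕ) : S.e ^ i = S.e ^ j ↔ i % 8 = j % 8 := by
  rw [pow_eq_pow_iff_modEq, orderOf_e]
  rfl

theorem e_mem (i : ℕ) : S.e ^ i ∈ centralizer ({S.t} : Set G) := pow_mem (S.φ_mem _) i

theorem u_mul_self : S.u * S.u = 1 := by rw [u, ← map_mul, U_mul_self, map_one]

theorem u_inv : S.u⁻¹ = S.u := inv_eq_of_mul_eq_one_right S.u_mul_self

theorem u_conj_pow (i : ℕ) : S.u * S.e ^ i * S.u⁻¹ = S.e ^ (3 * i) := by
  rw [← conj_pow, u_inv, pow_mul]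
  congr 1
  rw [e, u, ← map_mul, ← map_mul, U_E_U, map_pow]

theorem u_mem : S.u ∈ centralizer ({S.t} : Set G) := S.φ_mem _

theorem t_comm_e (i : ℕ) : Commute (S.e ^ i) S.t := mem_centralizer_singleton.mp (S.e_mem i)

/-- For `i` not divisible by 4, a power of `e ^ i` is `t`. -/
theorem exists_pow_eq_t {i : ℕ} (hi : ¬ 4 ∣ i) :
    (i % 2 = 1 ∧ (S.e ^ i) ^ 4 = S.t) ∨ (i % 2 = 0 ∧ (S.e ^ i) ^ 2 = S.t) := by
  rcases Nat.mod_two_eq_zero_or_one i with h | h
  · refine Or.inr ⟨h, ?_⟩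
    rw [← pow_mul, e_pow_mod, show i * 2 % 8 = 4 by omega, e_pow_four]
  · refine Or.inl ⟨h, ?_⟩
    rw [← pow_mul, e_pow_mod, show i * 4 % 8 = 4 by omega, e_pow_four]

/-- Fusion of the powers of `e` is controlled by `C(t)`. -/
theorem mem_H_of_conj_pow {i j : ℕ} (hi : ¬ 4 ∣ i) (hj : ¬ 4 ∣ j) {g : G}
    (h : g * S.e ^ i * g⁻¹ = S.e ^ j) : g ∈ centralizer ({S.t} : Set G) := by
  have key : ∀ n : ℕ, g * (S.e ^ i) ^ n * g⁻¹ = (S.e ^ j) ^ n := fun n => by rw [← conj_pow, h]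
  suffices g * S.t * g⁻¹ = S.t by
    rw [mem_centralizer_singleton]
    calc g * S.t = g * S.t * g⁻¹ * g := by group
      _ = S.t * g := by rw [this]
  rcases S.exists_pow_eq_t hi with ⟨a, b⟩ | ⟨a, b⟩ <;>
    rcases S.exists_pow_eq_t hj with ⟨c, d⟩ | ⟨c, d⟩
  · have := key 4; rwa [b, d] at this
  · exfalso
    have h2 := key 4
    rw [b, show (4 : ℕ) = 2 * 2 from rfl, pow_mul, d, pow_two, mul_self_of_orderOf S.ht] at h2
    exact S.t_ne_one (by simpa using h2)
  · exfalso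
    have h2 := key 4
    rw [d, show (4 : ℕ) = 2 * 2 from rfl, pow_mul, b, pow_two, mul_self_of_orderOf S.ht] at h2
    exact S.t_ne_one (by simpa using h2.symm)
  · have := key 2; rwa [b, d] at this

/-- Membership in the dihedral-type Sylow subgroup generated by `e` and `u`. -/
def InSyl (g : G) : Prop := ∃ i : ℕ, g = S.e ^ i ∨ g = S.u * S.e ^ i

theorem inSyl_of_conj_pow {i j : ℕ} (hi : ¬ 4 ∣ i) (hj : ¬ 4 ∣ j) {g : G}
    (h : g * S.e ^ i * g⁻¹ = S.e ^ j) : S.InSyl g := by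
  have hg := S.mem_H_of_conj_pow hi hj h
  obtain ⟨x, rfl⟩ := S.exists_φ hg
  -- pass to the elements of order 4
  obtain ⟨k, hk, hki⟩ : ∃ k : ℕ, (k = 2 ∨ k = 6) ∧ ∃ n : ℕ, i * n % 8 = k ∧ j * n % 8 ∈ ({2, 6} : Finset ℕ) := by
    rcases Nat.mod_two_eq_zero_or_one i with h1 | h1
    · refine ⟨i % 8, by omega, 1, by omega, ?_⟩
      rcases Nat.mod_two_eq_zero_or_one j with h2 | h2
      · simp only [Finset.mem_insert, Finset.mem_singleton]; omega
      · exfalso
        have h3 := congrArg (fun z => z ^ 4) h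
        simp only [conj_pow, ← pow_mul] at h3
        rw [S.e_pow_mod (i * 4), show i * 4 % 8 = 0 by omega, pow_zero, mul_one, mul_inv_cancel,
          S.e_pow_mod (j * 4), show j * 4 % 8 = 4 by omega, e_pow_four] at h3
        exact S.t_ne_one h3.symm
    · refine ⟨i * 2 % 8, by omega, 2, rfl, ?_⟩
      rcases Nat.mod_two_eq_zero_or_one j with h2 | h2
      · exfalso
        have h3 := congrArg (fun z => z ^ 4) h
        simp only [conj_pow, ← pow_mul] at h3
        rw [S.e_pow_mod (j * 4), show j * 4 % 8 = 0 by omega, pow_zero, mul_inv_eq_one,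
          S.e_pow_mod (i * 4), show i * 4 % 8 = 4 by omega, e_pow_four,
          mul_eq_left] at h3
        exact S.t_ne_one h3
      · simp only [Finset.mem_insert, Finset.mem_singleton]; omega
  obtain ⟨n, hn, hn'⟩ := hki
  have h4 : S.φ x * S.e ^ k * (S.φ x)⁻¹ = S.e ^ (j * n % 8) := by
    rw [← hn, ← e_pow_mod, ← e_pow_mod, pow_mul, pow_mul, ← conj_pow, h]
  simp only [Finset.mem_insert, Finset.mem_singleton] at hn'
  have h5 : S.φ x * S.e ^ 2 = S.e ^ 2 * S.φ x ∨ S.φ x * S.e ^ 2 = S.e ^ 6 * S.φ x := by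
    generalize j * n % 8 = m at h4 hn'
    have hsq : ∀ z : G, ∀ a b : ℕ, z * S.e ^ a * z⁻¹ = S.e ^ b →
        z * S.e ^ (a * 3 % 8) * z⁻¹ = S.e ^ (b * 3 % 8) := fun z a b hab => by
      rw [← e_pow_mod, ← e_pow_mod, pow_mul, pow_mul, ← conj_pow, hab]
    rcases hk with rfl | rfl <;> rcases hn' with rfl | rfl
    · exact Or.inl (mul_inv_eq_iff_eq_mul.mp h4)
    · exact Or.inr (mul_inv_eq_iff_eq_mul.mp h4)
    · exact Or.inr (mul_inv_eq_iff_eq_mul.mp (hsq _ _ _ h4))
    · exact Or.inl (mul_inv_eq_iff_eq_mul.mp (hsq _ _ _ h4))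
  have h6 : x * E ^ 2 = E ^ 2 * x ∨ x * E ^ 2 = E ^ 6 * x := by
    rcases h5 with h5 | h5
    · exact Or.inl (S.inj (by simpa [e] using h5))
    · exact Or.inr (S.inj (by simpa [e] using h5))
  obtain ⟨m, hm⟩ := mat_norm_E2 (x : M2) (d2_coe_ne_zero x)
    (h6.imp (congrArg Units.val) (congrArg Units.val))
  refine ⟨(m : ℕ), hm.imp (fun h => ?_) (fun h => ?_)⟩
  · rw [Units.ext h, map_pow]; rfl
  · rw [Units.ext h, map_mul, map_pow]; rfl

theorem mem_zpowers_of_comm_e2 {g : G} (hg : g ∈ centralizer ({S.t} : Set G))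
    (h : g * S.e ^ 2 = S.e ^ 2 * g) : ∃ i : ℕ, g = S.e ^ i := by
  obtain ⟨x, rfl⟩ := S.exists_φ hg
  have h6 : x * E ^ 2 = E ^ 2 * x := S.inj (by simpa [e] using h)
  obtain ⟨m, hm⟩ := mat_cent_E2 (x : M2) (d2_coe_ne_zero x) (congrArg Units.val h6)
  exact ⟨(m : ℕ), by rw [Units.ext hm, map_pow]; rfl⟩

theorem u_e_mul (i : ℕ) : S.e ^ i * S.u = S.u * S.e ^ (3 * i) := by
  rw [← u_conj_pow, u_inv]
  simp only [← mul_assoc, u_mul_self, one_mul]

/-- The Sylow 2-subgroup `⟨e, u⟩`, of order 16. -/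
def syl : Subgroup G where
  carrier := {g | S.InSyl g}
  one_mem' := ⟨0, Or.inl (pow_zero _).symm⟩
  mul_mem' := by
    rintro a b ⟨i, rfl | rfl⟩ ⟨j, rfl | rfl⟩
    · exact ⟨i + j, Or.inl (pow_add _ _ _).symm⟩
    · exact ⟨3 * i + j, Or.inr (by rw [← mul_assoc, u_e_mul, mul_assoc, pow_add])⟩
    · exact ⟨i + j, Or.inr (by rw [mul_assoc, pow_add])⟩
    · refine ⟨3 * i + j, Or.inl ?_⟩
      rw [mul_assoc, ← mul_assoc (S.e ^ i), u_e_mul, mul_assoc, ← mul_assoc S.u, u_mul_self, one_mul,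
        pow_add]
  inv_mem' := by
    rintro a ⟨i, rfl | rfl⟩
    · refine ⟨7 * i, Or.inl (inv_eq_of_mul_eq_one_right ?_)⟩
      rw [← pow_add, e_pow_mod, show (i + 7 * i) % 8 = 0 by omega, pow_zero]
    · refine ⟨5 * i, Or.inr (inv_eq_of_mul_eq_one_right ?_)⟩
      rw [mul_assoc, ← mul_assoc (S.e ^ i), u_e_mul, mul_assoc, ← mul_assoc S.u, u_mul_self, one_mul,
        ← pow_add, e_pow_mod, show (3 * i + 5 * i) % 8 = 0 by omega, pow_zero]

theorem mem_syl {g : G} : g ∈ S.syl ↔ ∃ i : ℕ, g = S.e ^ i ∨ g = S.u * S.e ^ i := Iff.rfl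

theorem syl_le : S.syl ≤ centralizer ({S.t} : Set G) := by
  rintro g ⟨i, rfl | rfl⟩
  · exact S.e_mem i
  · exact mul_mem S.u_mem (S.e_mem i)

theorem u_notMem_e (i : ℕ) : S.u ≠ S.e ^ i := by
  intro h
  have h1 := S.u_conj_pow 1
  rw [h, pow_one, mul_one, show S.e ^ i * S.e * (S.e ^ i)⁻¹ = S.e by
    rw [(Commute.pow_self S.e i).eq, mul_inv_cancel_right]] at h1
  have := (S.e_pow_eq_iff 1 3).mp (by rw [pow_one]; exact h1)
  omega

theorem card_syl : Nat.card S.syl = 16 := by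
  let f : Fin 8 × Bool → S.syl := fun p =>
    ⟨if p.2 then S.u * S.e ^ (p.1 : ℕ) else S.e ^ (p.1 : ℕ), (p.1 : ℕ), by cases p.2 <;> simp⟩
  have hf : Function.Bijective f := by
    constructor
    · rintro ⟨a, x⟩ ⟨b, y⟩ hab
      have h := congrArg Subtype.val hab
      simp only [f] at h
      cases x <;> cases y <;> simp only [Bool.false_eq_true, if_false, if_true] at h
      · exact Prod.ext (Fin.ext (by have := (S.e_pow_eq_iff _ _).mp h; dsimp only; omega)) rfl
      · exfalso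
        refine S.u_notMem_e ((a : ℕ) + 7 * b) ?_
        rw [pow_add, h, mul_assoc, ← pow_add, S.e_pow_mod, show ((b : ℕ) + 7 * b) % 8 = 0 by omega,
          pow_zero, mul_one]
      · exfalso
        refine S.u_notMem_e ((b : ℕ) + 7 * a) ?_
        rw [pow_add, ← h, mul_assoc, ← pow_add, S.e_pow_mod, show ((a : ℕ) + 7 * a) % 8 = 0 by omega,
          pow_zero, mul_one]
      · exact Prod.ext (Fin.ext (by
          have := (S.e_pow_eq_iff _ _).mp (mul_left_cancel h); dsimp only; omega)) rfl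
    · rintro ⟨g, i, rfl | rfl⟩
      · exact ⟨(⟨i % 8, by omega⟩, false), Subtype.ext (S.e_pow_mod i).symm⟩
      · exact ⟨(⟨i % 8, by omega⟩, true), Subtype.ext (by simp [f, ← S.e_pow_mod i])⟩
  rw [← Nat.card_eq_of_bijective f hf]
  simp

theorem card_zpowers_e : Nat.card (zpowers S.e) = 8 := by rw [Nat.card_zpowers, orderOf_e]

end Setup

end Cfsg.Agent.GL23Inv
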