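import Cfsg.Agent.GL23Inv.Char
import Cfsg.Agent.GL23Inv.Arith

/-!
# Simple groups with an involution centraliser `GL(2,3)` have order 5616 or 7920
-/

set_option autoImplicit false
set_option linter.unusedSectionVars false

open scoped ComplexConjugate

namespace Cfsg.Agent.GL23Inv

open Subgroup

/-- An integer function whose squares sum to 2 has exactly two nonzero values, both `±1`. -/
theorem exists_two_of_sq_sum {α : Type*} [DecidableEq α] (s : Finset α) (b : α → ℤ)
    (h : ∑ x ∈ s, b x * b x = 2) :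
    ∃ x y, x ≠ y ∧ x ∈ s ∧ y ∈ s ∧ b x * b x = 1 ∧ b y * b y = 1 ∧
      ∀ z ∈ s, z ≠ x → z ≠ y → b z = 0 := by
  have hone : ∀ x ∈ s, b x ≠ 0 → b x * b x = 1 := by
    intro x hx hne
    have h1 : b x * b x ≤ 2 := h ▸ Finset.single_le_sum (fun i _ => mul_self_nonneg (b i)) hx
    have h2 : -1 ≤ b x := by nlinarith
    have h3 : b x ≤ 1 := by nlinarith
    obtain h4 | h4 : b x = 1 ∨ b x = -1 := by omega
    all_goals simp [h4]
  have hcard : ((s.filter fun x => b x ≠ 0).card : ℤ) = 2 := by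
    rw [← h, ← Finset.sum_filter_of_ne (p := fun x => b x ≠ 0) (fun x _ hx h0 => hx (by simp [h0])),
      Finset.cast_card]
    refine Finset.sum_congr rfl fun x hx => ?_
    obtain ⟨hx1, hx2⟩ := Finset.mem_filter.mp hx
    exact (hone x hx1 hx2).symm
  obtain ⟨x, y, hxy, hset⟩ := Finset.card_eq_two.mp (by exact_mod_cast hcard :
    (s.filter fun x => b x ≠ 0).card = 2)
  have hmem : ∀ z, z ∈ ({x, y} : Finset α) → z ∈ s ∧ b z ≠ 0 := fun z hz => by
    rw [← hset] at hz; exact Finset.mem_filter.mp hz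
  refine ⟨x, y, hxy, (hmem x (by simp)).1, (hmem y (by simp)).1,
    hone _ (hmem x (by simp)).1 (hmem x (by simp)).2,
    hone _ (hmem y (by simp)).1 (hmem y (by simp)).2, fun z hz h1 h2 => ?_⟩
  by_contra hne
  have : z ∈ ({x, y} : Finset α) := hset ▸ Finset.mem_filter.mpr ⟨hz, hne⟩
  simp only [Finset.mem_insert, Finset.mem_singleton] at this
  exact this.elim h1 h2

namespace Setup

variable {G : Type*} [Group G] [Fintype G] [IsSimpleGroup G] (S : Setup G)

include S in
theorem card_invol : Nat.card {y : G // orderOf y = 2} * 48 = Nat.card G := by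
  rw [← InvChar68.card_isConj_mul_card_centralizer S.t, S.card_H]
  congr 1
  refine Nat.card_congr (Equiv.subtypeEquivRight fun y => ⟨fun h => S.conj_invol h, fun h => ?_⟩)
  obtain ⟨w, rfl⟩ := isConj_iff.mp h
  rw [← MulAut.conj_apply, MulEquiv.orderOf_eq, S.ht]

include S in
theorem card_pairs_conj {x y : G} (h : IsConj x y) :
    Nat.card {p : G × G // orderOf p.1 = 2 ∧ orderOf p.2 = 2 ∧ p.1 * p.2 = y} =
      Nat.card {p : G × G // orderOf p.1 = 2 ∧ orderOf p.2 = 2 ∧ p.1 * p.2 = x} := by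
  obtain ⟨w, rfl⟩ := isConj_iff.mp h
  have hx := S.pairs_eq (w * x * w⁻¹)
  simp only [fun χ : Cfsg.IrrCharacter G => CharCore.irr_isClassFunction χ x w] at hx
  rw [← S.pairs_eq x] at hx
  exact_mod_cast mul_right_cancel₀ (Nat.cast_ne_zero.mpr Nat.card_pos.ne') hx

include S in
theorem card_lower : 4032 ≤ Nat.card G := by
  classical
  set n := Nat.card {y : G // orderOf y = 2} with hn
  set I : Finset G := Finset.univ.filter fun y => orderOf y = 2 with hI
  have hIc : I.card = n := by rw [hn, Nat.card_eq_fintype_card, Fintype.card_subtype]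
  have hfib : ∀ g : G, ((I ×ˢ I).filter fun p : G × G => p.1 * p.2 = g).card =
      Nat.card {p : G × G // orderOf p.1 = 2 ∧ orderOf p.2 = 2 ∧ p.1 * p.2 = g} := by
    intro g
    rw [Nat.card_eq_fintype_card, Fintype.card_subtype]
    congr 1
    ext p
    simp [hI, and_assoc]
  have htot : ∑ g : G, ((I ×ˢ I).filter fun p : G × G => p.1 * p.2 = g).card = n * n := by
    refine (Finset.card_eq_sum_card_fiberwise (f := fun p : G × G => p.1 * p.2) (s := I ×ˢ I)
      (t := (Finset.univ : Finset G)) (fun _ _ => Finset.mem_univ _)).symm.trans ?_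
    rw [Finset.card_product, hIc]
  set C : G → Finset G := fun x => Finset.univ.filter fun y => IsConj x y with hC
  have hCc : ∀ x, (C x).card * Nat.card (centralizer ({x} : Set G)) = Nat.card G := fun x => by
    rw [← InvChar68.card_isConj_mul_card_centralizer x, Nat.card_eq_fintype_card
      (α := {y : G // IsConj x y}), Fintype.card_subtype]
  have hCsum : ∀ (x : G) (k : ℕ),
      Nat.card {p : G × G // orderOf p.1 = 2 ∧ orderOf p.2 = 2 ∧ p.1 * p.2 = x} = k →
      ∑ g ∈ C x, ((I ×ˢ I).filter fun p : G × G => p.1 * p.2 = g).card = (C x).card * k := by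
    intro x k hk
    rw [Finset.sum_const_nat fun g hg => ?_]
    rw [hfib, S.card_pairs_conj (Finset.mem_filter.mp hg).2, hk]
  have hord : ∀ x g, g ∈ C x → orderOf g = orderOf x := fun x g hg => by
    obtain ⟨w, rfl⟩ := isConj_iff.mp (Finset.mem_filter.mp hg).2
    rw [← MulAut.conj_apply, MulEquiv.orderOf_eq]
  have he2 : orderOf (S.e ^ 2) = 4 := by
    rw [orderOf_pow, S.orderOf_e]; rfl
  have hd1 : Disjoint (C (S.e ^ 2)) (C S.g6) := Finset.disjoint_left.mpr fun g h1 h2 => by
    have := (hord _ _ h1).symm.trans (hord _ _ h2)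
    rw [he2, S.orderOf_g6] at this
    omega
  have hd2 : Disjoint (C (S.e ^ 2) ∪ C S.g6) (C S.t) := Finset.disjoint_left.mpr fun g h1 h2 => by
    rcases Finset.mem_union.mp h1 with h | h <;>
      have := (hord _ _ h).symm.trans (hord _ _ h2)
    · rw [he2, S.ht] at this; omega
    · rw [S.orderOf_g6, S.ht] at this; omega
  have hle := Finset.sum_le_univ_sum_of_nonneg (s := C (S.e ^ 2) ∪ C S.g6 ∪ C S.t)
    (w := fun g => Nat.zero_le ((I ×ˢ I).filter fun p : G × G => p.1 * p.2 = g).card)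
  rw [Finset.sum_union hd2, Finset.sum_union hd1, hCsum _ _ S.card_pairs_e2,
    hCsum _ _ S.card_pairs_g6, hCsum _ _ S.card_pairs_t, htot] at hle
  have h1 := hCc (S.e ^ 2)
  have h2 := hCc S.g6
  have h3 := hCc S.t
  rw [S.card_cent_e2] at h1
  rw [S.card_cent_g6] at h2
  rw [S.card_H] at h3
  have h4 := S.card_invol
  rw [← hn] at h4
  have hpos : 0 < Nat.card G := Nat.card_pos
  have hn84 : 84 ≤ n := by
    by_contra hlt
    push Not at hlt
    have : n * n < n * 84 := Nat.mul_lt_mul_of_pos_left hlt (by omega)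
    omega
  omega

include S in
theorem main : Nat.card G = 5616 ∨ Nat.card G = 7920 := by
  classical
  obtain ⟨sa, sab, sb⟩ := S.sum_coeff
  set s := (Finset.univ : Finset (Cfsg.IrrCharacter G)).erase triv with hs
  have hsplit : ∀ f : Cfsg.IrrCharacter G → ℤ, ∑ χ, f χ = f triv + ∑ χ ∈ s, f χ := fun f =>
    (Finset.add_sum_erase _ _ (Finset.mem_univ _)).symm
  rw [hsplit, a_triv] at sa
  rw [hsplit, a_triv, b_triv] at sab
  rw [hsplit, b_triv] at sb
  obtain ⟨x, y, hxy, hx, hy, hbx, hby, hrest⟩ :=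
    exists_two_of_sq_sum s S.b (by linarith)
  have hsab : ∑ χ ∈ s, S.a χ * S.b χ = S.a x * S.b x + S.a y * S.b y := by
    rw [← Finset.sum_pair (f := fun χ => S.a χ * S.b χ) hxy]
    refine (Finset.sum_subset (fun z hz => ?_) fun z hz hz' => ?_).symm
    · simp only [Finset.mem_insert, Finset.mem_singleton] at hz
      rcases hz with rfl | rfl <;> assumption
    · simp only [Finset.mem_insert, Finset.mem_singleton, not_or] at hz'
      rw [hrest z hz hz'.1 hz'.2, mul_zero]
  have hsa : S.a x * S.a x + S.a y * S.a y ≤ 3 := by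
    rw [← Finset.sum_pair (f := fun χ => S.a χ * S.a χ) hxy]
    refine le_trans (Finset.sum_le_sum_of_subset_of_nonneg (fun z hz => ?_)
      fun z _ _ => mul_self_nonneg _) (show ∑ χ ∈ s, S.a χ * S.a χ ≤ 3 by linarith)
    simp only [Finset.mem_insert, Finset.mem_singleton] at hz
    rcases hz with rfl | rfl <;> assumption
  -- pick the character with nonzero coefficient in `A`
  obtain ⟨p, q, hpq, hp, hq, hbp, hbq, hrest', hap⟩ : ∃ p q, p ≠ q ∧ p ∈ s ∧ q ∈ s ∧
      S.b p * S.b p = 1 ∧ S.b q * S.b q = 1 ∧ (∀ z ∈ s, z ≠ p → z ≠ q → S.b z = 0) ∧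
      S.a p = S.b p := by
    have h1 : S.a x * S.b x + S.a y * S.b y = 1 := by linarith
    have hax : -1 ≤ S.a x ∧ S.a x ≤ 1 := by constructor <;> nlinarith [mul_self_nonneg (S.a y)]
    have hay : -1 ≤ S.a y ∧ S.a y ≤ 1 := by constructor <;> nlinarith [mul_self_nonneg (S.a x)]
    by_cases hcx : S.a x = S.b x
    · exact ⟨x, y, hxy, hx, hy, hbx, hby, hrest, hcx⟩
    refine ⟨y, x, hxy.symm, hy, hx, hby, hbx, fun z hz h2 h3 => hrest z hz h3 h2, ?_⟩
    rcases mul_self_eq_one_iff.mp hbx with h2 | h2 <;> rcases mul_self_eq_one_iff.mp hby with h3 | h3 <;>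
      rw [h2, h3] at h1 <;> omega
  have hbsum : ∀ F : Cfsg.IrrCharacter G → ℂ, ∑ χ, (S.b χ : ℂ) * F χ =
      F triv + S.b p * F p + S.b q * F q := by
    intro F
    rw [← Finset.add_sum_erase _ _ (Finset.mem_univ triv), S.b_triv, Int.cast_one, one_mul, ← hs,
      ← Finset.sum_subset (s₁ := ({p, q} : Finset _)) (s₂ := s), Finset.sum_pair hpq, add_assoc]
    · intro z hz
      simp only [Finset.mem_insert, Finset.mem_singleton] at hz
      rcases hz with rfl | rfl <;> assumption
    · intro z hz hz'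
      simp only [Finset.mem_insert, Finset.mem_singleton, not_or] at hz'
      rw [hrest' z hz hz'.1 hz'.2, Int.cast_zero, zero_mul]
  -- degrees and values at `t`
  obtain ⟨dp, hdp0, hdp, -⟩ := BlocksCore.exists_degree p
  obtain ⟨dq, hdq0, hdq, -⟩ := BlocksCore.exists_degree q
  choose z hz using fun χ : Cfsg.IrrCharacter G =>
    let ⟨d, _, hd, _⟩ := BlocksCore.exists_degree χ
    let ⟨a, ha, _⟩ := InvChar68.exists_int_value_involution S.ht χ hd
    (⟨a, ha⟩ : ∃ a : ℤ, (χ : G → ℂ) S.t = a)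
  have htriv : ∀ g, ((triv : Cfsg.IrrCharacter G) : G → ℂ) g = 1 := fun g => rfl
  have e1 := S.sum_b_sq (g := 1) (one_pow 2)
  rw [hbsum, htriv, hdp, hdq] at e1
  have et := S.sum_b_sq (g := S.t) (by rw [← S.ht]; exact pow_orderOf_eq_one _)
  rw [hbsum, htriv, hz, hz] at et
  have eq := S.equation
  rw [show ∑ χ : Cfsg.IrrCharacter G, (χ : G → ℂ) S.t ^ 2 * (S.b χ : ℂ) / (χ : G → ℂ) 1 =
    ∑ χ : Cfsg.IrrCharacter G, (S.b χ : ℂ) * ((χ : G → ℂ) S.t ^ 2 / (χ : G → ℂ) 1) from
    Finset.sum_congr rfl fun χ _ => by ring, hbsum, htriv, htriv, hz, hz, hdp, hdq] at eq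
  obtain ⟨n, hn⟩ : ∃ n, Nat.card {y : G // orderOf y = 2} = n := ⟨_, rfl⟩
  have hn48 := S.card_invol
  rw [hn] at hn48
  rw [hn] at eq
  have hnG : (Nat.card G : ℂ) = (n : ℂ) * 48 := by exact_mod_cast hn48.symm
  rw [hnG] at eq
  have hn0 : 0 < n := by
    rcases Nat.eq_zero_or_pos n with h | h
    · rw [h, zero_mul] at hn48; exact absurd hn48.symm Nat.card_pos.ne'
    · exact h
  have hdpC : (dp : ℂ) ≠ 0 := Nat.cast_ne_zero.mpr hdp0.ne'
  have hdqC : (dq : ℂ) ≠ 0 := Nat.cast_ne_zero.mpr hdq0.ne'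
  have hnC : (n : ℂ) ≠ 0 := Nat.cast_ne_zero.mpr hn0.ne'
  field_simp at eq
  have eqZ : (n : ℤ) * ((dp : ℤ) * dq + S.b p * z p ^ 2 * dq + S.b q * z q ^ 2 * dp) =
      96 * ((dp : ℤ) * dq) := by
    refine Int.cast_injective (α := ℂ) ?_
    push_cast
    linear_combination eq
  have e1' : 1 + S.b p * (dp : ℤ) + S.b q * (dq : ℤ) = 0 := by
    refine Int.cast_injective (α := ℂ) ?_
    push_cast
    exact e1
  have et' : 1 + S.b p * z p + S.b q * z q = 0 := by
    refine Int.cast_injective (α := ℂ) ?_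
    push_cast
    exact et
  -- the signed degree and value
  obtain ⟨F, hF⟩ : ∃ F, F = S.b p * (dp : ℤ) := ⟨_, rfl⟩
  obtain ⟨A, hA⟩ : ∃ A, A = S.b p * z p := ⟨_, rfl⟩
  have hQ : S.b q * (dq : ℤ) = -1 - F := by rw [hF]; linarith
  have hB : S.b q * z q = -1 - A := by rw [hA]; linarith
  have key : (Nat.card G : ℤ) * (F - A) ^ 2 = 4608 * F * (F + 1) := by
    have h1 : (n : ℤ) * (F * (-1 - F) + A ^ 2 * (-1 - F) + (-1 - A) ^ 2 * F) =
        96 * (F * (-1 - F)) := by
      rw [← hQ, ← hB, hF, hA]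
      rcases mul_self_eq_one_iff.mp hbp with h | h <;>
        rcases mul_self_eq_one_iff.mp hbq with h' | h' <;>
        rw [h, h'] at eqZ ⊢ <;>
        first
          | linear_combination eqZ
          | linear_combination -eqZ
    have hG : (Nat.card G : ℤ) = n * 48 := by exact_mod_cast hn48.symm
    rw [hG]
    linear_combination -48 * h1
  have hF0 : F ≠ 0 := by
    rw [hF]
    exact mul_ne_zero (fun h => by rw [h] at hbp; norm_num at hbp) (by exact_mod_cast hdp0.ne')
  have hF1 : F + 1 ≠ 0 := by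
    intro h
    have : S.b q * (dq : ℤ) = 0 := by rw [hQ]; linarith
    rcases mul_eq_zero.mp this with h1 | h1
    · rw [h1] at hbq; norm_num at hbq
    · exact hdq0.ne' (by exact_mod_cast h1)
  -- the column of `t`
  have hcol : A ^ 2 + A ≤ 23 := by
    have h := InvChar68.sum_mul_conj_self S.t
    rw [S.card_H] at h
    simp only [hz, map_intCast] at h
    have h' : ∑ χ : Cfsg.IrrCharacter G, z χ * z χ = 48 := by
      refine Int.cast_injective (α := ℂ) ?_
      push_cast
      exact h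
    have hle := Finset.sum_le_univ_sum_of_nonneg (s := ({triv, p, q} : Finset (Cfsg.IrrCharacter G)))
      (w := fun χ => mul_self_nonneg (z χ))
    rw [h', Finset.sum_insert (by
      simp only [Finset.mem_insert, Finset.mem_singleton, not_or]
      exact ⟨(Finset.ne_of_mem_erase hp).symm, (Finset.ne_of_mem_erase hq).symm⟩),
      Finset.sum_pair hpq] at hle
    have hzt : z triv = 1 := by
      have := hz triv
      rw [htriv] at this
      exact_mod_cast this.symm
    have hA2 : z p * z p = A * A := by rw [hA]; linear_combination (-(z p * z p)) * hbp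
    have hB2 : z q * z q = (1 + A) * (1 + A) := by
      rw [show 1 + A = -(S.b q * z q) by rw [hB]; ring]
      linear_combination (-(z q * z q)) * hbq
    rw [hzt, hA2, hB2] at hle
    nlinarith
  -- congruences
  have c8 := S.congr_Z p (d := (dp : ℤ)) (z := z p) (by rw [hdp, Int.cast_natCast]) (hz p)
  have c16 := S.congr_syl p (d := (dp : ℤ)) (z := z p) (by rw [hdp, Int.cast_natCast]) (hz p)
  rw [hap] at c8 c16
  obtain ⟨m, hm, hm2⟩ := S.card_eq_sixteen_mul_odd
  refine arith hm hm2 S.card_lower hF0 hF1 hcol ?_ ?_ key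
  · rw [hF, hA]
    rcases mul_self_eq_one_iff.mp hbp with h | h <;> rw [h] at c8 ⊢ <;> omega
  · rw [hF, hA]
    rcases mul_self_eq_one_iff.mp hbp with h | h <;> rw [h] at c16 ⊢ <;> omega

end Setup

end Cfsg.Agent.GL23Inv
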