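import Mathlib.LinearAlgebra.Matrix.GeneralLinearGroup.Defs
import Mathlib.Data.Fintype.Pi
import Mathlib.Data.ZMod.Basic
import Mathlib.SetTheory.Cardinal.Finite

/-!
# Decidable facts about `GL(2,3)`, stated on matrices
-/

set_option autoImplicit false

namespace Cfsg.Agent.GL23Inv

/-- Two by two matrices over the field with three elements. -/
abbrev M2 := Matrix (Fin 2) (Fin 2) (ZMod 3)

/-- The group `GL(2,3)`. -/
abbrev X := GL (Fin 2) (ZMod 3)

/-- An element of order 8. -/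
def E : X := ⟨!![0, 1; 1, 1], !![2, 1; 1, 0], by decide, by decide⟩

/-- An involution acting on the powers of `E` as cubing. -/
def U : X := ⟨!![1, 1; 0, 2], !![1, 1; 0, 2], by decide, by decide⟩

/-- The central involution. -/
def N : X := ⟨!![2, 0; 0, 2], !![2, 0; 0, 2], by decide, by decide⟩

/-- An element of order 6. -/
def G6 : X := ⟨!![2, 2; 0, 2], !![2, 1; 0, 2], by decide, by decide⟩

theorem forall_matrix {P : M2 → Prop} (h : ∀ a b c d : ZMod 3, P !![a, b; c, d]) (M : M2) : P M := by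
  rw [Matrix.eta_fin_two M]; exact h _ _ _ _

/-- A determinant that the kernel evaluates quickly. -/
def d2 (M : M2) : ZMod 3 := M 0 0 * M 1 1 - M 0 1 * M 1 0

theorem d2_coe_ne_zero (g : X) : d2 (g : M2) ≠ 0 := by
  have h : IsUnit ((g : M2).det) := (Matrix.isUnit_iff_isUnit_det _).mp g.isUnit
  rw [Matrix.det_fin_two] at h
  exact h.ne_zero

theorem E_pow_four : E ^ 4 = N := by apply Units.ext; decide +kernel

theorem N_ne_one : N ≠ 1 := fun h => by
  have := congrArg (fun g : X => (g : M2) 0 0) h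
  revert this; decide +kernel

theorem N_mul_self : N * N = 1 := by apply Units.ext; decide +kernel

theorem U_mul_self : U * U = 1 := by apply Units.ext; decide +kernel

theorem U_E_U : U * E * U = E ^ 3 := by apply Units.ext; decide +kernel

theorem G6_pow_three : G6 ^ 3 = N := by apply Units.ext; decide +kernel

theorem G6_sq_ne_one : G6 ^ 2 ≠ 1 := fun h => by
  have := congrArg (fun g : X => (g : M2)) h
  revert this; decide +kernel

theorem mat_central : ∀ M : M2, M * (E : M2) = (E : M2) * M → M * (U : M2) = (U : M2) * M →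
    d2 M ≠ 0 → M = 1 ∨ M = (N : M2) :=
  forall_matrix (by decide +kernel)

theorem mat_center_N : ∀ M : M2, M * (N : M2) = (N : M2) * M :=
  forall_matrix (by decide +kernel)

theorem mat_cent_E2 : ∀ M : M2, d2 M ≠ 0 → M * ((E ^ 2 : X) : M2) = ((E ^ 2 : X) : M2) * M →
    ∃ i : Fin 8, M = ((E ^ (i : ℕ) : X) : M2) :=
  forall_matrix (by decide +kernel)

theorem mat_norm_E2 : ∀ M : M2, d2 M ≠ 0 →
    (M * ((E ^ 2 : X) : M2) = ((E ^ 2 : X) : M2) * M ∨
      M * ((E ^ 2 : X) : M2) = ((E ^ 6 : X) : M2) * M) →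
    ∃ i : Fin 8, M = ((E ^ (i : ℕ) : X) : M2) ∨ M = ((U * E ^ (i : ℕ) : X) : M2) :=
  forall_matrix (by decide +kernel)

theorem mat_not_real : ∀ M : M2, d2 M ≠ 0 → M * (E : M2) ≠ ((E ^ 7 : X) : M2) * M :=
  forall_matrix (by decide +kernel)

theorem exists_conj_UE : ∀ i : Fin 4, ∃ a b c d : ZMod 3, d2 !![a, b; c, d] ≠ 0 ∧
    !![a, b; c, d] * ((U * E ^ (2 * (i : ℕ) + 1) : X) : M2) =
      ((E ^ 2 : X) : M2) * !![a, b; c, d] := by
  decide +kernel

theorem card_mat_E2_inverting :
    Fintype.card {M : M2 // M * M = 1 ∧ M ≠ 1 ∧ M * ((E ^ 2 : X) : M2) = ((E ^ 6 : X) : M2) * M}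
      = 4 := by
  decide +kernel

theorem card_mat_cent_G6 :
    Fintype.card {M : M2 // d2 M ≠ 0 ∧ M * (G6 : M2) = (G6 : M2) * M} = 6 := by
  decide +kernel

theorem card_mat_G6_inverting :
    Fintype.card {M : M2 // M * M = 1 ∧ M ≠ 1 ∧ M * (G6 : M2) = ((G6 ^ 5 : X) : M2) * M} = 6 := by
  decide +kernel

theorem card_mat_invol : Fintype.card {M : M2 // M * M = 1 ∧ M ≠ 1} = 13 := by decide +kernel

end Cfsg.Agent.GL23Inv
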